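import Groth.Agent.SGA3x.K197.RatDefs
import Mathlib.AlgebraicGeometry.AffineSpace
import Mathlib.Algebra.Lie.Nilpotent

/-!
# Rationality of the scheme of maximal tori: the nodes of the proof, as propositions
-/

set_option autoImplicit false
set_option linter.unusedVariables false
universe u
open CategoryTheory MonoidalCategory CartesianMonoidalCategory MonObj GrpObj AlgebraicGeometry Limits
open Groth.Agent.Books.AffBridge

namespace K197.Rat

noncomputable section

/-- graded Engel theorem (Jacobson: weakly closed sets of nilpotent elements) -/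
def N1_gradedEngel : Prop :=
  ∀ (k L : Type u) [Field k] [LieRing L] [LieAlgebra k L] [FiniteDimensional k L] (S : Set L)
     (hS : Submodule.span k S = ⊤) (hbr : ∀ x ∈ S, ∀ y ∈ S, ⁅x, y⁆ ∈ S)
     (hnil : ∀ x ∈ S, IsNilpotent (LieAlgebra.ad k L x)),
    LieRing.IsNilpotent L

/-- a reduced scheme locally of finite type with purely transcendental function field is rational -/
def N2_exists_open : Prop :=
  ∀ (k F : Type u) [Field k] [Field F] [Algebra k F] (X : Over (Spec (CommRingCat.of k)))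
     [LocallyOfFiniteType X.hom] [IsReduced X.left] (x : Spec (CommRingCat.of F) ⟶ X.left)
     (hx : IsResidue x) (hxk : x ≫ X.hom = bs k F) (hgen : closure {x (IsLocalRing.closedPoint F)} = Set.univ)
     (hPT : PT k F),
    ∃ (n : ℕ) (U : X.left.Opens) (V : (AffineSpace (ULift.{u} (Fin n)) (Spec (CommRingCat.of k))).Opens)
      (e : (U : Scheme.{u}) ≅ (V : Scheme.{u})),
      (U : Set ↥X.left).Nonempty ∧
      e.hom ≫ V.ι ≫ (AffineSpace (ULift.{u} (Fin n)) (Spec (CommRingCat.of k)) ↘ (Spec (CommRingCat.of k))) =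
        U.ι ≫ X.hom

/-- dimension and the Lie algebra of an affine algebraic group -/
def N3_dim : Prop :=
  ∀ (E B : Type u) [Field E] [CommRing B] [HopfAlgebra E B] [Algebra.FiniteType E B],
    topologicalKrullDim (SpecOver E B).left ≤ (Module.finrank E (eDer E B E) : WithBot ℕ∞) ∧
    (Smooth (SpecOver E B).hom ↔
      topologicalKrullDim (SpecOver E B).left = (Module.finrank E (eDer E B E) : WithBot ℕ∞))

/-- dimension of the scheme of maximal tori -/
def N4_dim_tori : Prop :=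
  ∀ (k : Type u) [Field k] (G : Over (Spec (CommRingCat.of k))) [GrpObj G]
     [Smooth G.hom] [IsAffine G.left] (𝒯 : Over (Spec (CommRingCat.of k))) (Tu : Over 𝒯.left) [GrpObj Tu]
     (iu : Tu ⟶ Red.bc 𝒯.hom G) (h𝒯 : SGA3x.RepresentsMaxTori G 𝒯 Tu iu)
     (E : Type u) [Field E] [Algebra k E] (T C : Over (Spec (CommRingCat.of E))) [GrpObj T] [GrpObj C]
     (i : T ⟶ Red.bc (bs k E) G) (hi : Red.IsMaximalTorus i) (c : C ⟶ Red.bc (bs k E) G)
     (hc : Red.IsCentralizerOf i c),
    topologicalKrullDim G.left = topologicalKrullDim 𝒯.left + topologicalKrullDim C.left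

/-- the generic maximal torus is a conjugate by the generic point of the group -/
def N5_generic : Prop :=
  ∀ (k A : Type u) [Field k] [CommRing A] [IsDomain A] [HopfAlgebra k A]
     [Smooth (SpecOver k A).hom] (𝒯 : Over (Spec (CommRingCat.of k))) (Tu : Over 𝒯.left) [GrpObj Tu]
     (iu : Tu ⟶ Red.bc 𝒯.hom (SpecOver k A)) (h𝒯 : SGA3x.RepresentsMaxTori (SpecOver k A) 𝒯 Tu iu)
     (T : Over (Spec (CommRingCat.of k))) [GrpObj T] (i : T ⟶ SpecOver k A) (hi : Red.IsMaximalTorus i)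
     (F : Type u) [Field F] [Algebra k F] (x : Spec (CommRingCat.of F) ⟶ 𝒯.left) (hx : IsResidue x)
     (hxk : x ≫ 𝒯.hom = bs k F) (hgen : closure {x (IsLocalRing.closedPoint F)} = Set.univ),
    ∃ φ : F →ₐ[k] FractionRing A, ∀ (X : Over (Spec (CommRingCat.of k))) (g h : X ⟶ SpecOver k A)
      (ω : X.left ⟶ Spec (CommRingCat.of (FractionRing A)))
      (hω : ω ≫ Spec.map (CommRingCat.ofHom (algebraMap A (FractionRing A))) = g.left),
      (∃ a : X.left ⟶ Tu.left, a ≫ Tu.hom = ω ≫ Spec.map (CommRingCat.ofHom φ.toRingHom) ≫ x ∧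
        a ≫ iu.left ≫ pullback.fst (SpecOver k A).hom 𝒯.hom = h.left) ↔
      ∃ b : X ⟶ T, h = g * (b ≫ i) * g⁻¹

/-- a maximal torus contained in a subgroup: the residue field of its classifying point -/
def N6_descent : Prop :=
  ∀ (k K' F : Type u) [Field k] [Field K'] [Field F] [Algebra k K'] [Algebra K' F] [Algebra k F]
     [IsScalarTower k K' F] (G : Over (Spec (CommRingCat.of k))) [GrpObj G] [Smooth G.hom] [IsAffine G.left]
     (𝒯 : Over (Spec (CommRingCat.of k))) (Tu : Over 𝒯.left) [GrpObj Tu]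
     (iu : Tu ⟶ Red.bc 𝒯.hom G) (h𝒯 : SGA3x.RepresentsMaxTori G 𝒯 Tu iu)
     (H : Over (Spec (CommRingCat.of K'))) [GrpObj H] [Smooth H.hom] [IsAffine H.left]
     (m : H ⟶ Red.bc (bs k K') G) [IsMonHom m] [Mono m]
     (𝒯' : Over (Spec (CommRingCat.of K'))) (Tu' : Over 𝒯'.left) [GrpObj Tu']
     (iu' : Tu' ⟶ Red.bc 𝒯'.hom H) (h𝒯' : SGA3x.RepresentsMaxTori H 𝒯' Tu' iu')
     (x : Spec (CommRingCat.of F) ⟶ 𝒯.left) (hx : IsResidue x) (hxk : x ≫ 𝒯.hom = bs k F)
     (s : (Red.bc x Tu).left ⟶ H.left) (hs : s ≫ H.hom = (Red.bc x Tu).hom ≫ bs K' F)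
     (hs' : s ≫ m.left ≫ pullback.fst G.hom (bs k K') =
       pullback.fst Tu.hom x ≫ iu.left ≫ pullback.fst G.hom 𝒯.hom),
    ∃ x' : Spec (CommRingCat.of F) ⟶ 𝒯'.left, IsResidue x' ∧ x' ≫ 𝒯'.hom = bs K' F

/-- the Lie algebra of the centralizer of a maximal torus -/
def N7_lieCent : Prop :=
  ∀ (K A : Type u) [Field K] [IsAlgClosed K] [CommRing A] [IsDomain A] [HopfAlgebra K A]
     [Smooth (SpecOver K A).hom] (r : ℕ)
     (t : A →ₐc[K] MonoidAlgebra K (Multiplicative (Fin r → ℤ))) (ht : Function.Surjective t)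
     (T : Over (Spec (CommRingCat.of K))) [GrpObj T] (i : T ⟶ SpecOver K A) (hi : Red.IsMaximalTorus i)
     (e : T ≅ SpecOver K (MonoidAlgebra K (Multiplicative (Fin r → ℤ)))) [IsMonHom e.hom]
     (hei : i = e.hom ≫ specMap K (t : A →ₐ[K] MonoidAlgebra K (Multiplicative (Fin r → ℤ))))
     (X : A →ₗ[K] K) (hX : X ∈ eDer K A K)
     (hc : WithConv.toConv (t : A →ₐ[K] MonoidAlgebra K (Multiplicative (Fin r → ℤ))).toLinearMap *
         WithConv.toConv ((Algebra.linearMap K (MonoidAlgebra K (Multiplicative (Fin r → ℤ)))).comp X) =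
       WithConv.toConv ((Algebra.linearMap K (MonoidAlgebra K (Multiplicative (Fin r → ℤ)))).comp X) *
         WithConv.toConv (t : A →ₐ[K] MonoidAlgebra K (Multiplicative (Fin r → ℤ))).toLinearMap),
    ∃ lam : (Fin r → ℤ) →+ K, ∀ a : A, ∃ n₀ : ℕ, ∀ n ≥ n₀,
      ((WithConv.toConv (X - dH (t : A →ₐ[K] MonoidAlgebra K (Multiplicative (Fin r → ℤ))) lam)) ^ n).ofConv a = 0

/-- a nontrivial torus in a group with trivial reductive centre has a weight on the Lie algebra with nonzero differential -/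
def N8_weight : Prop :=
  ∀ (K A : Type u) [Field K] [IsAlgClosed K] [CommRing A] [IsDomain A] [HopfAlgebra K A]
     [Smooth (SpecOver K A).hom]
     (hZ : ∀ (Z : Over (Spec (CommRingCat.of K))) [GrpObj Z] (z : Z ⟶ SpecOver K A) [IsMonHom z] [Mono z],
       SGA3x.IsMultTypeFT Z → (∀ (X : Over (Spec (CommRingCat.of K))) (x : X ⟶ Z) (g : X ⟶ SpecOver K A),
         (x ≫ z) * g = g * (x ≫ z)) → Red.IsTrivialGrp Z)
     (r : ℕ) (hr : r ≠ 0)
     (t : A →ₐc[K] MonoidAlgebra K (Multiplicative (Fin r → ℤ))) (ht : Function.Surjective t),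
    ∃ (χ : Fin r → ℤ) (lam : (Fin r → ℤ) →+ K) (X : A →ₗ[K] K), lam χ ≠ 0 ∧ X ≠ 0 ∧ X ∈ eDer K A K ∧
      WithConv.toConv (t : A →ₐ[K] MonoidAlgebra K (Multiplicative (Fin r → ℤ))).toLinearMap *
        WithConv.toConv ((Algebra.linearMap K (MonoidAlgebra K (Multiplicative (Fin r → ℤ)))).comp X) =
      WithConv.toConv ((LinearMap.mulLeft K (MonoidAlgebra.single (Multiplicative.ofAdd χ) (1 : K))).comp
          (Algebra.linearMap K (MonoidAlgebra K (Multiplicative (Fin r → ℤ)))) |>.comp X) *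
        WithConv.toConv (t : A →ₐ[K] MonoidAlgebra K (Multiplicative (Fin r → ℤ))).toLinearMap

/-- the count of transcendence degrees -/
def N9_count : Prop :=
  ∀ (k K' F : Type u) [Field k] [Field K'] [Field F] [Algebra k K'] [Algebra K' F] [Algebra k F]
     [IsScalarTower k K' F] (X : Over (Spec (CommRingCat.of k))) [LocallyOfFiniteType X.hom]
     (x : Spec (CommRingCat.of F) ⟶ X.left) (hx : IsResidue x) (hxk : x ≫ X.hom = bs k F)
     (hgen : closure {x (IsLocalRing.closedPoint F)} = Set.univ)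
     (X' : Over (Spec (CommRingCat.of K'))) [LocallyOfFiniteType X'.hom] [IrreducibleSpace X'.left]
     (x' : Spec (CommRingCat.of F) ⟶ X'.left) (hx' : IsResidue x') (hx'k : x' ≫ X'.hom = bs K' F)
     (m d : ℕ) (v : Fin m → K') (hv : IntermediateField.adjoin k (Set.range v) = ⊤)
     (hd' : topologicalKrullDim X'.left = (d : WithBot ℕ∞))
     (hd : topologicalKrullDim X.left = ((m + d : ℕ) : WithBot ℕ∞)),
    AlgebraicIndependent k v ∧ closure {x' (IsLocalRing.closedPoint F)} = Set.univ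

/-- towers of purely transcendental extensions -/
def N9_trans : Prop :=
  ∀ (k K' F : Type u) [Field k] [Field K'] [Field F] [Algebra k K'] [Algebra K' F] [Algebra k F]
     [IsScalarTower k K' F] (h : PT k K') (h' : PT K' F),
    PT k F

/-- the scheme of maximal tori is smooth, affine and irreducible -/
def N10_smooth : Prop :=
  ∀ (k : Type u) [Field k] (G : Over (Spec (CommRingCat.of k))) [GrpObj G]
     [Smooth G.hom] [QuasiCompact G.hom] (𝒯 : Over (Spec (CommRingCat.of k))) (Tu : Over 𝒯.left) [GrpObj Tu]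
     (iu : Tu ⟶ Red.bc 𝒯.hom G) (h𝒯 : SGA3x.RepresentsMaxTori G 𝒯 Tu iu),
    Smooth 𝒯.hom ∧ IsAffine 𝒯.left ∧ IrreducibleSpace 𝒯.left

/-- the centralizer of the `p`-torsion of a torus is smooth -/
def N11_torsionCent : Prop :=
  ∀ (k A : Type u) [Field k] [CommRing A] [HopfAlgebra k A]
     [Smooth (SpecOver k A).hom] (T : Over (Spec (CommRingCat.of k))) [GrpObj T] (i : T ⟶ SpecOver k A) [IsMonHom i]
     (hT : Red.IsTorus T) (p : ℕ),
    ∃ (Z : Over (Spec (CommRingCat.of k))) (_ : GrpObj Z) (j : Z ⟶ SpecOver k A), IsMonHom j ∧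
      IsClosedImmersion j.left ∧ Smooth Z.hom ∧
      ∀ (X : Over (Spec (CommRingCat.of k))) (g : X ⟶ SpecOver k A), (∃ z : X ⟶ Z, z ≫ j = g) ↔
        ∀ (X' : Over (Spec (CommRingCat.of k))) (a : X' ⟶ X) (b : X' ⟶ T), b ^ p = 1 →
          (a ≫ g) * (b ≫ i) = (b ≫ i) * (a ≫ g)

end

end K197.Rat
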