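import Groth.Agent.SGA3x.K197.RatConv
import Mathlib.AlgebraicGeometry.Morphisms.ClosedImmersion

/-!
# Rationality of the scheme of maximal tori: further nodes, as propositions

* `resPt ρ`: restriction of a point of `Spec B` (over `E`) to a point of `Spec A` (over `k`) along `ρ : A → B`;
* `N12_dict`: subgroups of base changes of `Spec A` as Hopf algebras;
* `N14_dim`: comparison of dimensions over different fields;
* `N18_torus`: the maximal torus over a field-valued point of the scheme of maximal tori.
-/

set_option autoImplicit false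
set_option linter.unusedVariables false
universe u
open CategoryTheory MonoidalCategory CartesianMonoidalCategory MonObj GrpObj AlgebraicGeometry Limits
open Groth.Agent.Books.AffBridge WithConv

namespace K197.Rat

noncomputable section

/-- Restriction of points along `ρ : A → B`. -/
def resPt {k E A B R : Type u} [Field k] [Field E] [Algebra k E] [CommRing A] [HopfAlgebra k A] [CommRing B]
    [HopfAlgebra E B] [Algebra k B] [IsScalarTower k E B] [CommRing R] [Algebra k R] [Algebra E R]
    [IsScalarTower k E R] (ρ : A →ₐ[k] B) (ψ : Pt E B R) : Pt k A R :=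
  toConv ((ψ.ofConv.restrictScalars k).comp ρ)

/-- Affine subgroups `j : H ⟶ G_E` of the base change of `G = Spec A` are spectra of Hopf algebras over `E`. -/
def N12_dict : Prop :=
  ∀ (k E A : Type u) [Field k] [Field E] [Algebra k E] [CommRing A] [HopfAlgebra k A]
    (H : Over (Spec (CommRingCat.of E))) [GrpObj H] [IsAffine H.left]
    (j : H ⟶ Red.bc (bs k E) (SpecOver k A)) [IsMonHom j] [Mono j],
    ∃ (B : Type u) (_ : CommRing B) (_ : HopfAlgebra E B) (_ : Algebra k B) (_ : IsScalarTower k E B)
      (ρ : A →ₐ[k] B) (e : H ≅ SpecOver E B), IsMonHom e.hom ∧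
      e.inv.left ≫ j.left ≫ pullback.fst (SpecOver k A).hom (bs k E) = Spec.map (CommRingCat.ofHom ρ.toRingHom) ∧
      (∀ (R : Type u) [CommRing R] [Algebra k R] [Algebra E R] [IsScalarTower k E R],
        (∀ ψ ψ' : Pt E B R, resPt ρ (ψ * ψ') = resPt ρ ψ * resPt ρ ψ') ∧
        (Function.Injective (resPt ρ : Pt E B R → Pt k A R)) ∧
        (IsIso j → Function.Surjective (resPt ρ : Pt E B R → Pt k A R))) ∧
      (IsClosedImmersion j.left → Submodule.span E (Set.range ρ) = ⊤)

/-- If `B` is a finitely generated algebra over `K'`, `C` one over `k`, `Ω` a common extension field and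
`Ω ⊗ B → Ω ⊗ C` a surjection, then `dim C ≤ dim B`. -/
def N14_dim : Prop :=
  ∀ (k K' Ω : Type u) [Field k] [Field K'] [Field Ω] [Algebra k Ω] [Algebra K' Ω]
    (C : Type u) [CommRing C] [Algebra k C] [Algebra.FiniteType k C]
    (B : Type u) [CommRing B] [Algebra K' B] [Algebra.FiniteType K' B]
    (b : B →+* TensorProduct k Ω C)
    (hb : b.comp (algebraMap K' B) = (algebraMap Ω (TensorProduct k Ω C)).comp (algebraMap K' Ω))
    (hb' : Submodule.span Ω (Set.range b) = ⊤),
    ringKrullDim C ≤ ringKrullDim B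

/-- The maximal torus over a field-valued point of the scheme of maximal tori. -/
def N18_torus : Prop :=
  ∀ (k F : Type u) [Field k] [Field F] [Algebra k F] (G : Over (Spec (CommRingCat.of k))) [GrpObj G]
    [Smooth G.hom] [IsAffine G.left]
    (𝒯 : Over (Spec (CommRingCat.of k))) (Tu : Over 𝒯.left) [GrpObj Tu]
    (iu : Tu ⟶ Red.bc 𝒯.hom G) (h𝒯 : SGA3x.RepresentsMaxTori G 𝒯 Tu iu)
    (x : Spec (CommRingCat.of F) ⟶ 𝒯.left) (hxk : x ≫ 𝒯.hom = bs k F),
    ∃ (j : Red.bc x Tu ⟶ Red.bc (bs k F) G), Red.IsMaximalTorus j ∧ IsMonHom j ∧ Mono j ∧ IsAffine (Red.bc x Tu).left ∧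
      IsClosedImmersion j.left ∧ LocallyOfFiniteType (Red.bc x Tu).hom ∧
      j.left ≫ pullback.fst G.hom (bs k F) = pullback.fst Tu.hom x ≫ iu.left ≫ pullback.fst G.hom 𝒯.hom

end

end K197.Rat
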