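import Groth.Agent.SGA3x.K197.RatMain
import Groth.Agent.SGA3x.K796.DimDer
import Groth.Agent.SGA3x.K198.GenTorus
import Groth.Agent.SGA3x.K366.RatDesc
import Groth.Agent.SGA3x.K17.TrCount
import Groth.Agent.SGA3x.K17.TrTower
import Groth.Agent.SGA3x.K20.RatN10
import Groth.Agent.SGA3x.K20.RatN18
import Groth.Agent.SGA3x.K646.TorCent
import Groth.Agent.SGA3x.K844.RatN14
import Groth.Agent.SGA3x.K254.RatOpen
import Groth.Agent.SGA3x.K17.RatNil
import Groth.Agent.SGA3x.K979.RatReg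
import Groth.Agent.SGA3x.K198.RatTrans
import Groth.Agent.SGA3x.K719.RatDims

/-!
# Rationality of the scheme of maximal tori: assembly of the nodes
-/

set_option autoImplicit false
universe u
open CategoryTheory MonoidalCategory CartesianMonoidalCategory MonObj GrpObj AlgebraicGeometry

namespace K197.Rat

theorem nodes (p4 : P4_stab.{u}) (s1 : S1_split.{u}) (s3 : S3_triv.{u}) : Nodes.{u} where
  m1 := m1
  m2 := m2
  n3 := K796.DimDer.main
  n5 := K198.GenTorus.main
  n6 := K366.RatDesc.main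
  n9c := K17.TrCount.main
  n9t := K17.TrTower.main
  n10 := K20.RatN10.main
  n11 := K646.TorCent.main
  n12 := K796.Dict.main
  n14 := K844.RatN14.main
  n18 := K20.RatN18.main
  p1 := K17.RatNil.main
  p2 := K979.RatReg.main
  p3 := K198.RatTrans.main
  p4 := p4
  s1 := s1
  s3 := s3
  s4 := K719.RatDims.main

/-- the scheme of maximal tori is rational -/
theorem all (p4 : P4_stab.{u}) (s1 : S1_split.{u}) (s3 : S3_triv.{u}) (k : Type u) [Field k] [Infinite k]
    (G : Over (Spec (CommRingCat.of k))) [GrpObj G] [Smooth G.hom] [QuasiCompact G.hom]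
    (𝒯 : Over (Spec (CommRingCat.of k))) (Tu : Over 𝒯.left) [GrpObj Tu] (iu : Tu ⟶ Red.bc 𝒯.hom G)
    (h𝒯 : SGA3x.RepresentsMaxTori G 𝒯 Tu iu) :
    ∃ (n : ℕ) (U : 𝒯.left.Opens) (V : (AffineSpace (ULift.{u} (Fin n)) (Spec (CommRingCat.of k))).Opens)
      (e : (U : Scheme.{u}) ≅ (V : Scheme.{u})),
      (U : Set ↥𝒯.left).Nonempty ∧
      e.hom ≫ V.ι ≫ (AffineSpace (ULift.{u} (Fin n)) (Spec (CommRingCat.of k)) ↘ (Spec (CommRingCat.of k))) =
        U.ι ≫ 𝒯.hom :=
  rational (nodes p4 s1 s3) K254.RatOpen.main k G 𝒯 Tu iu h𝒯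

end K197.Rat
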