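import Groth.Agent.SGA3x.K197.RatWt
import Groth.Agent.SGA3x.K197.RatNodes2
import Mathlib.RingTheory.Localization.FractionRing

/-!
# Rationality of the scheme of maximal tori: nodes on the Lie algebra, as propositions

* `hK t`: the centralizer in the Lie algebra of the tangent vectors `dh t lam` of the torus;
* `Kill W n y`: all the brackets `⁅x₁, ⁅x₂, … ⁅xₙ, y⁆⁆⁆`, `xᵢ ∈ W`, are zero;
* `spanUp E R W`: the `R`-submodule generated by the `E`-subspace `W`;
* `Stab W φ`: the point `φ` and its inverse stabilize `W`.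
-/

set_option autoImplicit false
set_option linter.unusedVariables false
universe u
open CategoryTheory MonoidalCategory CartesianMonoidalCategory MonObj GrpObj AlgebraicGeometry Limits
open Groth.Agent.Books.AffBridge WithConv

namespace K197.Rat

noncomputable section

/-- the centralizer of the Lie algebra of the torus -/
def hK {k K A : Type u} [Field k] [Field K] [Algebra k K] [CommRing A] [HopfAlgebra k A]
    {N : Type} [AddCommGroup N] (t : Pt k A (GA K N)) : Submodule K (Cv k A K) where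
  carrier := {D | IsDer D ∧ ∀ lam : N →+ K, ⁅dh t lam, D⁆ = 0}
  add_mem' h h' := ⟨h.1.add h'.1, fun lam => by rw [lie_add, h.2, h'.2, add_zero]⟩
  zero_mem' := ⟨isDer_zero, fun lam => lie_zero _⟩
  smul_mem' r D h := ⟨h.1.smul r, fun lam => by
    rw [lie_eq, mul_smul_comm, smul_mul_assoc, ← smul_sub, ← lie_eq, h.2, smul_zero]⟩

/-- all the brackets `⁅x₁, ⁅x₂, … ⁅xₙ, y⁆⁆⁆`, `xᵢ ∈ W`, are zero -/
def Kill {k A R : Type u} [Field k] [CommRing A] [HopfAlgebra k A] [CommRing R] [Algebra k R] (W : Set (Cv k A R)) :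
    ℕ → Cv k A R → Prop
  | 0, y => y = 0
  | n + 1, y => ∀ x ∈ W, Kill W n ⁅x, y⁆

/-- the `R`-submodule generated by the `E`-subspace `W` -/
def spanUp {k A : Type u} [Field k] [CommRing A] [HopfAlgebra k A] (E R : Type u) [CommRing E] [Algebra k E]
    [CommRing R] [Algebra k R] [Algebra E R] [IsScalarTower k E R] (W : Submodule E (Cv k A E)) :
    Submodule R (Cv k A R) := Submodule.span R ((up E R) '' (W : Set (Cv k A E)))

/-- the point `φ` and its inverse stabilize `W` -/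
def Stab {k A E R : Type u} [Field k] [CommRing A] [HopfAlgebra k A] [CommRing E] [Algebra k E]
    [CommRing R] [Algebra k R] [Algebra E R] [IsScalarTower k E R] (W : Submodule E (Cv k A E)) (φ : Pt k A R) :
    Prop := ∀ D ∈ W, Ad φ (up E R D) ∈ spanUp E R W ∧ Ad φ⁻¹ (up E R D) ∈ spanUp E R W

/-- `P1`: the centralizer of the Lie algebra of a maximal torus is nilpotent. -/
def P1_nil : Prop :=
  ∀ (k K A : Type u) [Field k] [Field K] [Algebra k K] [CommRing A] [HopfAlgebra k A] [Algebra.FiniteType k A]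
    (r : ℕ) (t : Pt k A (GA K (Fin r → ℤ))) (ht : IsHomT t)
    (h7 : ∀ X : Cv k A K, IsDer X → IsWt t 0 X → ∃ lam : (Fin r → ℤ) →+ K, ∀ a : A, ∃ n₀ : ℕ, ∀ n ≥ n₀,
      ((X - dh t lam) ^ n) a = 0),
    ∃ m : ℕ, ∀ Y ∈ hK t, Kill (hK t : Set (Cv k A K)) m Y

/-- `P2`: regular elements in the Lie algebra of a torus over an infinite field `k`, split over `K`. -/
def P2_reg : Prop :=
  ∀ (k K A : Type u) [Field k] [Infinite k] [Field K] [Algebra k K] [CommRing A] [HopfAlgebra k A]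
    [Algebra.FiniteType k A] (r : ℕ) (t : Pt k A (GA K (Fin r → ℤ))) (ht : IsHomT t)
    (𝔱 : Submodule k (Cv k A k)) (h𝔱 : ∀ D ∈ 𝔱, IsDer D)
    (h1 : ∀ lam : (Fin r → ℤ) →+ K, dh t lam ∈ spanUp k K 𝔱)
    (h2 : ∀ Z ∈ 𝔱, ∃ lam : (Fin r → ℤ) →+ K, up k K Z = dh t lam),
    ∃ X₀ ∈ 𝔱, ∀ D : Cv k A k, IsDer D → (∀ Z ∈ 𝔱, ⁅Z, ⁅X₀, D⁆⁆ = 0) → ∀ Z ∈ 𝔱, ⁅Z, D⁆ = 0

/-- `P3`: the subspace `W₀ ⊆ Lie G` over `k`, its conjugate `W_F` by the generic point, defined over the field `F`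
between `k` and the function field of `G`, and the subspace `W'` over the field `K'` generated by the coordinates of
the element of `W_F` in a linear section. -/
def P3_trans : Prop :=
  ∀ (k A : Type u) [Field k] [CommRing A] [IsDomain A] [HopfAlgebra k A] [Algebra.FiniteType k A]
    (W₀ : Submodule k (Cv k A k)) (hW₀ : ∀ D ∈ W₀, IsDer D) (hsub : ∀ x ∈ W₀, ∀ y ∈ W₀, ⁅x, y⁆ ∈ W₀)
    (m : ℕ) (hnil : ∀ Y ∈ W₀, Kill (W₀ : Set (Cv k A k)) m Y)
    (X₀ : Cv k A k) (hX₀ : X₀ ∈ W₀) (hreg : ∀ D : Cv k A k, IsDer D → ⁅X₀, D⁆ ∈ W₀ → D ∈ W₀)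
    (F : Type u) [Field F] [Algebra k F] [Algebra F (FractionRing A)] [IsScalarTower k F (FractionRing A)]
    (W : Submodule F (Cv k A F)) (hW : ∀ D ∈ W, IsDer D)
    (hconj : ∀ D : Cv k A (FractionRing A), D ∈ spanUp F (FractionRing A) W ↔
      ∃ D' ∈ spanUp k (FractionRing A) W₀,
        D = Ad (toConv (IsScalarTower.toAlgHom k A (FractionRing A)) : Pt k A (FractionRing A)) D'),
    ∃ (q : ℕ) (K' : IntermediateField k F) (v : Fin q → K') (W' : Submodule K' (Cv k A K')),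
      IntermediateField.adjoin k (Set.range v) = ⊤ ∧
      Module.finrank k (Der k A k) = Module.finrank k W₀ + q ∧
      (∀ D ∈ W', IsDer D) ∧ Module.finrank K' W' = Module.finrank k W₀ ∧ spanUp K' F W' = W ∧
      (∀ D : Cv k A K', IsDer D → (∀ y ∈ W', ⁅D, y⁆ ∈ W') → D ∈ W')

/-- `P4`: the stabilizer of a subspace of the Lie algebra is a closed subgroup scheme. -/
def P4_stab : Prop :=
  ∀ (k E A : Type u) [Field k] [Field E] [Algebra k E] [CommRing A] [HopfAlgebra k A] [Algebra.FiniteType k A]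
    (W : Submodule E (Cv k A E)) (hW : ∀ D ∈ W, IsDer D),
    ∃ (B : Type u) (_ : CommRing B) (_ : HopfAlgebra E B) (_ : Algebra k B) (_ : IsScalarTower k E B)
      (ρ : A →ₐ[k] B) (j : SpecOver E B ⟶ Red.bc (bs k E) (SpecOver k A)),
      IsMonHom j ∧ IsClosedImmersion j.left ∧ Algebra.FiniteType E B ∧
      j.left ≫ pullback.fst (SpecOver k A).hom (bs k E) = Spec.map (CommRingCat.ofHom ρ.toRingHom) ∧
      Submodule.span E (Set.range ρ) = ⊤ ∧
      (∀ (R : Type u) [CommRing R] [Algebra k R] [Algebra E R] [IsScalarTower k E R],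
        (∀ ψ ψ' : Pt E B R, resPt ρ (ψ * ψ') = resPt ρ ψ * resPt ρ ψ') ∧
        (Function.Injective (resPt ρ : Pt E B R → Pt k A R)) ∧
        (∀ φ : Pt k A R, (∃ ψ : Pt E B R, resPt ρ ψ = φ) ↔ Stab W φ))

end

end K197.Rat
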