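import Groth.Agent.SGA3x.K197.RatNodes
import Groth.Agent.SGA3x.K197.RatNodes3

/-!
# Rationality of the scheme of maximal tori: nodes linking schemes and the convolution calculus, as propositions
-/

set_option autoImplicit false
set_option linter.unusedVariables false
universe u
open CategoryTheory MonoidalCategory CartesianMonoidalCategory MonObj GrpObj AlgebraicGeometry Limits
open Groth.Agent.Books.AffBridge WithConv

namespace K197.Rat

noncomputable section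

/-- `S1`: a maximal torus of `G = Spec A` over `k`, split over the algebraically closed field `K`. -/
def S1_split : Prop :=
  ∀ (k K A : Type u) [Field k] [Field K] [IsAlgClosed K] [Algebra k K] [CommRing A] [IsDomain A] [HopfAlgebra k A]
    [Smooth (SpecOver k A).hom] (T : Over (Spec (CommRingCat.of k))) [GrpObj T] (i : T ⟶ SpecOver k A)
    (hi : Red.IsMaximalTorus i)
    (hZ : ∀ (H : Over (Spec (CommRingCat.of K))) [GrpObj H] (v : H ⟶ Red.bc (bs k K) (SpecOver k A)) [IsMonHom v],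
      SGA3x.IsMultTypeFT H → (∀ (X : Over (Spec (CommRingCat.of K))) (x : X ⟶ H)
        (g : X ⟶ Red.bc (bs k K) (SpecOver k A)), (x ≫ v) * g = g * (x ≫ v)) → v = 1),
    ∃ (r : ℕ) (t : Pt k A (GA K (Fin r → ℤ))), IsHomT t ∧
      (∀ (R : Type u) [CommRing R] [Algebra k R] [Algebra K R] [IsScalarTower k K R] (φ : Pt k A R),
        (∃ h : SpecOver k R ⟶ T, h ≫ i = specMap k φ.ofConv) ↔
          ∃ c : Multiplicative (Fin r → ℤ) →* R, φ = Rat.T t c) ∧
      (∀ (R : Type u) [CommRing R] [Algebra k R] [Algebra K R] [IsScalarTower k K R]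
        (c c' : Multiplicative (Fin r → ℤ) →* R), Rat.T t c = Rat.T t c' → c = c') ∧
      (∀ X : Cv k A K, IsDer X → IsWt t 0 X → ∃ lam : (Fin r → ℤ) →+ K, ∀ a : A, ∃ n₀ : ℕ, ∀ n ≥ n₀,
        ((X - dh t lam) ^ n) a = 0) ∧
      (r ≠ 0 → ∃ (χ : Fin r → ℤ) (lam : (Fin r → ℤ) →+ K) (X : Cv k A K), lam χ ≠ 0 ∧ X ≠ 0 ∧ IsDer X ∧
        IsWt t χ X) ∧
      (r = 0 → Red.IsTrivialGrp T)

/-- `S3`: the case of a trivial maximal torus. -/
def S3_triv : Prop :=
  ∀ (k : Type u) [Field k] (G : Over (Spec (CommRingCat.of k))) [GrpObj G] [Smooth G.hom] [IsAffine G.left]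
    [ConnectedSpace G.left] (𝒯 : Over (Spec (CommRingCat.of k))) (Tu : Over 𝒯.left) [GrpObj Tu]
    (iu : Tu ⟶ Red.bc 𝒯.hom G) (h𝒯 : SGA3x.RepresentsMaxTori G 𝒯 Tu iu)
    (T : Over (Spec (CommRingCat.of k))) [GrpObj T] (i : T ⟶ G) (hi : Red.IsMaximalTorus i)
    (hT : Red.IsTrivialGrp T)
    (F : Type u) [Field F] [Algebra k F] (x : Spec (CommRingCat.of F) ⟶ 𝒯.left) (hx : IsResidue x)
    (hxk : x ≫ 𝒯.hom = bs k F) (hgen : closure {x (IsLocalRing.closedPoint F)} = Set.univ),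
    PT k F

/-- `S4`: the dimensions of the schemes of maximal tori of `G` and of a subgroup `H` over `K'` containing the maximal
torus over `F` and its centralizer. -/
def S4_dims : Prop :=
  ∀ (k K' F : Type u) [Field k] [Field K'] [Field F] [Algebra k K'] [Algebra K' F] [Algebra k F]
    [IsScalarTower k K' F] (G : Over (Spec (CommRingCat.of k))) [GrpObj G] [Smooth G.hom] [IsAffine G.left]
    (𝒯 : Over (Spec (CommRingCat.of k))) (Tu : Over 𝒯.left) [GrpObj Tu]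
    (iu : Tu ⟶ Red.bc 𝒯.hom G) (h𝒯 : SGA3x.RepresentsMaxTori G 𝒯 Tu iu)
    (H : Over (Spec (CommRingCat.of K'))) [GrpObj H] [Smooth H.hom] [IsAffine H.left]
    (m : H ⟶ Red.bc (bs k K') G) [IsMonHom m] [Mono m]
    (𝒯' : Over (Spec (CommRingCat.of K'))) (Tu' : Over 𝒯'.left) [GrpObj Tu']
    (iu' : Tu' ⟶ Red.bc 𝒯'.hom H) (h𝒯' : SGA3x.RepresentsMaxTori H 𝒯' Tu' iu')
    (x : Spec (CommRingCat.of F) ⟶ 𝒯.left) (hxk : x ≫ 𝒯.hom = bs k F)
    (s : (Red.bc x Tu).left ⟶ H.left) (hs : s ≫ H.hom = (Red.bc x Tu).hom ≫ bs K' F)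
    (hs' : s ≫ m.left ≫ pullback.fst G.hom (bs k K') =
      pullback.fst Tu.hom x ≫ iu.left ≫ pullback.fst G.hom 𝒯.hom)
    (hC : ∀ (X : Over (Spec (CommRingCat.of F))) [IsAffine X.left] (c : (Over.map (bs k F)).obj X ⟶ G),
      (∀ (X' : Over (Spec (CommRingCat.of F))) (y : X' ⟶ X) (b : (Over.map (bs k F)).obj X' ⟶ G),
        (∃ a : X'.left ⟶ Tu.left, a ≫ Tu.hom = X'.hom ≫ x ∧ a ≫ iu.left ≫ pullback.fst G.hom 𝒯.hom = b.left) →
          ((Over.map (bs k F)).map y ≫ c) * b = b * ((Over.map (bs k F)).map y ≫ c)) →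
      ∃ h : X.left ⟶ H.left, h ≫ H.hom = X.hom ≫ bs K' F ∧ h ≫ m.left ≫ pullback.fst G.hom (bs k K') = c.left)
    (n h q : ℕ) (hn : topologicalKrullDim G.left = (n : WithBot ℕ∞))
    (hh : topologicalKrullDim H.left = (h : WithBot ℕ∞)) (hq : n = h + q),
    ∃ d : ℕ, topologicalKrullDim 𝒯'.left = (d : WithBot ℕ∞) ∧ topologicalKrullDim 𝒯.left = ((q + d : ℕ) : WithBot ℕ∞)

end

end K197.Rat
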