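import Groth.Prelude.Def_SGA3x
import Groth.Agent.Books.AffBridge
import Mathlib.RingTheory.HopfAlgebra.Convolution
import Mathlib.FieldTheory.IntermediateField.Adjoin.Defs
import Mathlib.RingTheory.AlgebraicIndependent.Basic
import Mathlib.RingTheory.HopfAlgebra.MonoidAlgebra

/-!
# Rationality of the scheme of maximal tori: common definitions

* `bs k E`: the morphism `Spec E ⟶ Spec k`;
* `PT k F`: the field extension `F` of `k` is purely transcendental (of finite degree);
* `IsResidue x`: `x : Spec F ⟶ X` is the residue field of a point of `X`;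
* `eDer k A R`: the `R`-module of `ε`-derivations `A → R` of the bialgebra `A`;
* `dH t lam`: the `ε`-derivation `a ↦ ∑ₙ (t a)ₙ lam n` attached to a homomorphism `t` from `A` to a group algebra.
-/

set_option autoImplicit false
universe u v
open CategoryTheory MonoidalCategory CartesianMonoidalCategory MonObj GrpObj AlgebraicGeometry Limits

namespace K197.Rat

noncomputable section

/-- the morphism `Spec E ⟶ Spec k` -/
abbrev bs (k E : Type u) [CommRing k] [CommRing E] [Algebra k E] :
    Spec (CommRingCat.of E) ⟶ Spec (CommRingCat.of k) := Spec.map (CommRingCat.ofHom (algebraMap k E))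

/-- `F` is a purely transcendental extension of `k`, of finite degree -/
def PT (k F : Type u) [Field k] [Field F] [Algebra k F] : Prop :=
  ∃ (n : ℕ) (t : Fin n → F), AlgebraicIndependent k t ∧ IntermediateField.adjoin k (Set.range t) = ⊤

/-- `x : Spec F ⟶ X` is the residue field of a point of `X` -/
def IsResidue {X : Scheme.{u}} {F : Type u} [Field F] (x : Spec (CommRingCat.of F) ⟶ X) : Prop :=
  ∃ (p : X) (φ : X.residueField p ≅ CommRingCat.of F), x = Spec.map φ.hom ≫ X.fromSpecResidueField p

/-- the `R`-module of `ε`-derivations `A → R` -/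
def eDer (k A R : Type u) [Field k] [CommRing A] [Bialgebra k A] [CommRing R] [Algebra k R] :
    Submodule R (A →ₗ[k] R) where
  carrier := {D | ∀ a b : A, D (a * b) =
    algebraMap k R (Coalgebra.counit (R := k) a) * D b + algebraMap k R (Coalgebra.counit (R := k) b) * D a}
  add_mem' := by
    intro D D' h h' a b
    change (D + D') (a * b) = _ * (D + D') b + _ * (D + D') a
    rw [LinearMap.add_apply, LinearMap.add_apply, LinearMap.add_apply, h, h']; ring
  zero_mem' := by intro a b; simp
  smul_mem' := by
    intro r D h a b
    change (r • D) (a * b) = _ * (r • D) b + _ * (r • D) a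
    rw [LinearMap.smul_apply, LinearMap.smul_apply, LinearMap.smul_apply, h]
    simp only [smul_eq_mul]; ring

lemma mem_eDer {k A R : Type u} [Field k] [CommRing A] [Bialgebra k A] [CommRing R] [Algebra k R]
    {D : A →ₗ[k] R} : D ∈ eDer k A R ↔ ∀ a b : A, D (a * b) =
    algebraMap k R (Coalgebra.counit (R := k) a) * D b + algebraMap k R (Coalgebra.counit (R := k) b) * D a :=
  Iff.rfl

/-- The linear form `∑ cₙ eⁿ ↦ ∑ cₙ lam(n)` on a group algebra. -/
def mForm {K : Type u} [Field K] {N : Type} [AddCommGroup N] (lam : N →+ K) :
    MonoidAlgebra K (Multiplicative N) →ₗ[K] K :=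
  (Finsupp.linearCombination K (fun n : Multiplicative N => lam n.toAdd)).comp
    (MonoidAlgebra.coeffLinearEquiv K).toLinearMap

lemma mForm_single {K : Type u} [Field K] {N : Type} [AddCommGroup N] (lam : N →+ K) (n : Multiplicative N)
    (c : K) : mForm lam (MonoidAlgebra.single n c) = c * lam n.toAdd := by
  simp [mForm]

/-- The tangent vector at the unit, in the direction `lam`, of the homomorphism `D(N) → Spec A` given by `t`. -/
def dH {k A K : Type u} [Field k] [CommRing A] [Algebra k A] [Field K] [Algebra k K] {N : Type} [AddCommGroup N]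
    (t : A →ₐ[k] MonoidAlgebra K (Multiplicative N)) (lam : N →+ K) : A →ₗ[k] K :=
  ((mForm lam).restrictScalars k).comp t.toLinearMap

end

end K197.Rat
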