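import Groth.Agent.SGA3x.K197.RatTor

/-!
# The generic torus as a conjugate, stabilizers of the centralizer

`g : Pt k A Ω` a point over the field `Ω ⊇ F ⊇ k`; `ρ : A → B` a subgroup `T` over `k`, `ρF : A → BF` a subgroup over `F`
which over `Ω` is `g T g⁻¹` (`IsConj`).
-/

set_option autoImplicit false
set_option linter.unusedVariables false
universe u
open Coalgebra WithConv TensorProduct

namespace K197.Rat

noncomputable section

section pow

variable {k E A B : Type u} [Field k] [Field E] [Algebra k E] [CommRing A] [HopfAlgebra k A] [CommRing B]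
  [HopfAlgebra E B] [Algebra k B] [IsScalarTower k E B]
variable {R : Type u} [CommRing R] [Algebra k R] [Algebra E R] [IsScalarTower k E R] {ρ : A →ₐ[k] B}

lemma IsSub.pow (hρ : IsSub E ρ) (ψ : Pt E B R) (n : ℕ) : (resPt ρ (ψ ^ n) : Pt k A R) = (resPt ρ ψ) ^ n := by
  induction n with
  | zero => rw [pow_zero, pow_zero, hρ.one]
  | succ n ih => rw [pow_succ, pow_succ, hρ.mul, ih]

end pow

section exmul

variable {k A R R₂ : Type u} [Field k] [CommRing A] [HopfAlgebra k A] [CommRing R] [Algebra k R]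
  [CommRing R₂] [Algebra k R₂] (i : R →ₐ[k] R₂) (e : R₂) (he : e * e = 0)

lemma sqz_mul {e : R₂} (he : e * e = 0) (a b : Cv k A R₂) : (1 + e • a) * (1 + e • b) = 1 + e • (a + b) := by
  have h : (e • a) * (e • b) = 0 := by rw [smul_mul_assoc, mul_smul_comm, smul_smul, he, zero_smul]
  rw [mul_add, _root_.mul_one, add_mul, _root_.one_mul, h, add_zero, smul_add, add_assoc]

lemma sqz_comm {e : R₂} (he : e * e = 0) (d y : Cv k A R₂) :
    (1 + e • d) * y = (y + e • (d * y - y * d)) * (1 + e • d) := by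
  have h : (e • (d * y - y * d)) * (e • d) = 0 := by rw [smul_mul_assoc, mul_smul_comm, smul_smul, he, zero_smul]
  rw [mul_add (y + e • (d * y - y * d)), _root_.mul_one, add_mul y, h, add_zero, add_mul, _root_.one_mul, smul_mul_assoc,
    mul_smul_comm, add_assoc, ← smul_add, sub_add_cancel]

lemma conj_eq_conj_iff (g x y : Pt k A R) : g * x * g⁻¹ = g * y * g⁻¹ ↔ x = y := by
  constructor
  · intro h
    exact mul_left_cancel (mul_right_cancel h)
  · rintro rfl; rfl

lemma ex_mul (D D' : Cv k A R) (h : IsDer D) (h' : IsDer D') :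
    ex i e he D h * ex i e he D' h' = ex i e he (D + D') (h.add h') := by
  apply lin_injective
  rw [map_mul, lin_ex, lin_ex, lin_ex, sqz_mul he, map_add]

lemma ex_zero : ex i e he (0 : Cv k A R) isDer_zero = 1 := by
  apply lin_injective
  rw [lin_ex, map_zero, smul_zero, add_zero, map_one]

lemma ex_pow (D : Cv k A R) (h : IsDer D) (n : ℕ) (hn : ((n : ℕ) : k) = 0) : ex i e he D h ^ n = 1 := by
  have h1 : ∀ n : ℕ, ∃ h' : IsDer ((n : R) • D), ex i e he D h ^ n = ex i e he ((n : R) • D) h' := by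
    intro n
    induction n with
    | zero =>
      refine ⟨h.smul _, ?_⟩
      rw [pow_zero]
      exact (ex_zero i e he).symm.trans (ex_congr _ _ _ (by rw [Nat.cast_zero, zero_smul]))
    | succ n ih =>
      obtain ⟨h', e'⟩ := ih
      refine ⟨h.smul _, ?_⟩
      rw [pow_succ, e', ex_mul]
      exact ex_congr _ _ _ (by rw [Nat.cast_succ, add_smul, one_smul])
  obtain ⟨h', e'⟩ := h1 n
  rw [e']
  have h2 : ((n : ℕ) : R) = 0 := by
    rw [← map_natCast (algebraMap k R), hn, map_zero]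
  exact (ex_congr _ _ _ (by rw [h2, zero_smul])).trans (ex_zero i e he)

/-- conjugation by `1 + e D` -/
lemma Ad_ex (D : Cv k A R) (h : IsDer D) (y : Cv k A R) :
    Ad (ex i e he D h) (cvMap i y) = cvMap i y + e • cvMap i ⁅D, y⁆ := by
  rw [Ad_eq_iff, lin_ex, lie_eq, map_sub, map_mul, map_mul]
  exact sqz_comm he _ _

lemma ptMap_ex' {R₃ : Type u} [CommRing R₃] [Algebra k R₃] (f : R₂ →ₐ[k] R₃) (D : Cv k A R) (h : IsDer D) (i' : R →ₐ[k] R₃)
    (e' : R₃) (he' : e' * e' = 0) (hi : f.comp i = i') (hee : f e = e') :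
    ptMap f (ex i e he D h) = ex i' e' he' D h := by
  subst hi hee
  exact ptMap_ex i e he f D h

end exmul

section clinspan

variable {k E A R : Type u} [Field k] [Field E] [Algebra k E] [CommRing A] [HopfAlgebra k A] [CommRing R]
  [Algebra k R] [Algebra E R] [IsScalarTower k E R]

lemma clin_up (c : R →ₗ[E] E) (D : Cv k A E) : clin c (up E R D) = c 1 • D := by
  refine cv_ext fun a => ?_
  change c (algebraMap E R (D a)) = c 1 * D a
  rw [Algebra.algebraMap_eq_smul_one, map_smul, smul_eq_mul, _root_.mul_comm]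

/-- linear forms map the span of `W` into `W` -/
lemma clin_mem {W : Submodule E (Cv k A E)} {D : Cv k A R} (h : D ∈ spanUp E R W) (c : R →ₗ[E] E) : clin c D ∈ W := by
  induction h using Submodule.span_induction generalizing c with
  | mem x hx =>
    obtain ⟨D, hD, rfl⟩ := hx
    rw [clin_up]
    exact W.smul_mem _ hD
  | zero => rw [map_zero]; exact W.zero_mem
  | add x y _ _ hx hy => rw [map_add]; exact W.add_mem (hx c) (hy c)
  | smul r x _ hx =>
    have h1 : clin c (r • x) = clin (c.comp (LinearMap.mulLeft E r)) x := rfl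
    rw [h1]
    exact hx _

lemma up_mem_iff [Nontrivial R] {W : Submodule E (Cv k A E)} {D : Cv k A E} : up E R D ∈ spanUp E R W ↔ D ∈ W := by
  refine ⟨fun h => ?_, fun h => mem_spanUp h⟩
  obtain ⟨c, hc⟩ : ∃ c : R →ₗ[E] E, c 1 = 1 := by
    obtain ⟨c, hc⟩ := (Algebra.linearMap E R).exists_leftInverse_of_injective
      (LinearMap.ker_eq_bot.2 (algebraMap E R).injective)
    refine ⟨c, ?_⟩
    have := LinearMap.congr_fun hc 1
    simpa using this
  have h1 := clin_mem h c
  rwa [clin_up, hc, one_smul] at h1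

lemma spanUp_up {R₂ : Type u} [CommRing R₂] [Algebra k R₂] [Algebra E R₂] [Algebra R R₂] [IsScalarTower k E R₂]
    [IsScalarTower k R R₂] [IsScalarTower E R R₂] {W : Submodule E (Cv k A E)} {D : Cv k A R}
    (h : D ∈ spanUp E R W) : up R R₂ D ∈ spanUp E R₂ W := by
  induction h using Submodule.span_induction with
  | mem x hx =>
    obtain ⟨D, hD, rfl⟩ := hx
    rw [up_up]
    exact mem_spanUp hD
  | zero => rw [up_zero]; exact Submodule.zero_mem _
  | add x y _ _ hx hy => rw [up_add]; exact Submodule.add_mem _ hx hy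
  | smul r x _ hx => rw [up_smul]; exact Submodule.smul_mem _ _ hx

lemma spanUp_trans {F : Type u} [Field F] [Algebra k F] [Algebra E F] [IsScalarTower k E F] [Algebra F R]
    [IsScalarTower k F R] [IsScalarTower E F R] {W : Submodule E (Cv k A E)} :
    spanUp F R (spanUp E F W) = spanUp E R W := by
  apply le_antisymm
  · rw [spanUp, Submodule.span_le]
    rintro _ ⟨D, hD, rfl⟩
    exact spanUp_up hD
  · rw [spanUp, Submodule.span_le]
    rintro _ ⟨D, hD, rfl⟩
    have : (up E R D : Cv k A R) = up F R (up E F D) := (up_up D).symm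
    rw [this]
    exact mem_spanUp (mem_spanUp hD)

end clinspan

section stab

variable {k K' A : Type u} [Field k] [Field K'] [Algebra k K'] [CommRing A] [HopfAlgebra k A]

/-- the `ε`-component -/
def sndL (E : Type u) [Field E] : DualNumber E →ₗ[E] E := TrivSqZeroExt.sndHom E E

/-- the infinitesimal stabilizer normalizes -/
theorem lie_mem_of_stab (W : Submodule K' (Cv k A K')) (D : Cv k A K') (h : IsDer D)
    (hs : Stab W (exd D h : Pt k A (DualNumber K'))) (y : Cv k A K') (hy : y ∈ W) : ⁅D, y⁆ ∈ W := by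
  have h1 := (hs y hy).1
  have h2 : (Ad (exd D h) (up K' (DualNumber K') y) : Cv k A (DualNumber K')) =
      cvMap (inl k K') y + (DualNumber.eps : DualNumber K') • cvMap (inl k K') ⁅D, y⁆ :=
    Ad_ex (inl k K') DualNumber.eps (eps_mul_eps K') D h y
  have h3 := clin_mem h1 (sndL K')
  have h4 : clin (sndL K') (Ad (exd D h) (up K' (DualNumber K') y) : Cv k A (DualNumber K')) = ⁅D, y⁆ := by
    refine cv_ext fun a => ?_
    rw [h2]
    change (TrivSqZeroExt.inl (y a) + DualNumber.eps * TrivSqZeroExt.inl (⁅D, y⁆ a) : DualNumber K').snd = ⁅D, y⁆ a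
    simp
  rwa [h4] at h3

end stab

section conj

variable {k F Ω A B BF : Type u} [Field k] [Field F] [Algebra k F] [Field Ω] [Algebra k Ω] [Algebra F Ω]
  [IsScalarTower k F Ω] [CommRing A] [HopfAlgebra k A] [CommRing B] [HopfAlgebra k B]
  [CommRing BF] [HopfAlgebra F BF] [Algebra k BF] [IsScalarTower k F BF]

/-- the image of the point `g` -/
def gR (g : Pt k A Ω) (R : Type u) [CommRing R] [Algebra k R] [Algebra Ω R] [IsScalarTower k Ω R] : Pt k A R :=
  ptMap (IsScalarTower.toAlgHom k Ω R) g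

/-- over `Ω`, the subgroup `ρF` is the conjugate by `g` of the subgroup `ρ` -/
def IsConj (F : Type u) [Field F] [Algebra k F] [Algebra F Ω] {BF : Type u} [CommRing BF] [HopfAlgebra F BF]
    [Algebra k BF] [IsScalarTower k F BF] (g : Pt k A Ω) (ρ : A →ₐ[k] B) (ρF : A →ₐ[k] BF) : Prop :=
  ∀ (R : Type u) [CommRing R] [Algebra k R] [Algebra F R] [Algebra Ω R] [IsScalarTower k F R] [IsScalarTower k Ω R]
    [IsScalarTower F Ω R] (φ : Pt k A R), (∃ ψ : Pt F BF R, resPt ρF ψ = φ) ↔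
      ∃ ψ : Pt k B R, φ = gR g R * resPt ρ ψ * (gR g R)⁻¹

variable {g : Pt k A Ω} {ρ : A →ₐ[k] B} {ρF : A →ₐ[k] BF}
variable {R : Type u} [CommRing R] [Algebra k R] [Algebra F R] [Algebra Ω R] [IsScalarTower k F R]
  [IsScalarTower k Ω R] [IsScalarTower F Ω R]

/-- **The Lie algebra of the conjugate.** -/
theorem IsConj.mem_iff (hc : IsConj F g ρ ρF) (hρ : IsSub k ρ) (hρF : IsSub F ρF) [Algebra.FiniteType k B]
    [Algebra.FiniteType F BF] (D : Cv k A R) (h : IsDer D) :
    Ad (gR g R) D ∈ spanUp F R (LieS F ρF) ↔ D ∈ spanUp k R (LieS k ρ) := by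
  rw [mem_spanUp_LieS hρF _ (h.conj _), mem_spanUp_LieS hρ _ h, hc]
  have h1 : (exd (Ad (gR g R) D) (h.conj _) : Pt k A (DualNumber R)) =
      gR g (DualNumber R) * exd D h * (gR g (DualNumber R))⁻¹ :=
    (conj_ex (inl k R) DualNumber.eps (eps_mul_eps R) (gR g R) D h).symm
  have h2 : ∀ x y : Pt k A (DualNumber R), gR g (DualNumber R) * x * (gR g (DualNumber R))⁻¹ =
      gR g (DualNumber R) * y * (gR g (DualNumber R))⁻¹ ↔ x = y := fun x y => conj_eq_conj_iff (R := DualNumber R) _ _ _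
  constructor
  · rintro ⟨ψ, hψ⟩
    refine ⟨ψ, ?_⟩
    have h3 := h1.symm.trans hψ
    exact ((h2 _ _).1 h3).symm
  · rintro ⟨ψ, hψ⟩
    refine ⟨ψ, h1.trans ?_⟩
    rw [hψ]

/-- **The centralizer of the conjugate.** -/
theorem IsConj.cent_iff (hc : IsConj F g ρ ρF) (hρ : IsSub k ρ) (hρF : IsSub F ρF) [Algebra.FiniteType k B]
    [Algebra.FiniteType F BF] [Algebra.FiniteType k A] (D : Cv k A R) :
    D ∈ spanUp F R (cent (LieS F ρF)) ↔ ∃ D' ∈ spanUp k R (cent (LieS k ρ)), D = Ad (gR g R) D' := by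
  constructor
  · intro h
    obtain ⟨h1, h2⟩ := mem_spanUp_cent.1 h
    refine ⟨Ad (gR g R)⁻¹ D, mem_spanUp_cent.2 ⟨h1.conj _, fun Z hZ => ?_⟩, (Ad_Ad_inv _ _).symm⟩
    have h3 : Ad (gR g R) (up k R Z) ∈ spanUp F R (LieS F ρF) :=
      (hc.mem_iff hρ hρF _ (isDer_LieS hρ hZ).up).2 (mem_spanUp hZ)
    have h4 := lie_of_mem_spanUp h2 h3
    apply Ad_injective (gR g R)
    rw [Ad_lie, Ad_Ad_inv, h4, Ad_zero]
  · rintro ⟨D', hD', rfl⟩
    obtain ⟨h1, h2⟩ := mem_spanUp_cent.1 hD'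
    refine mem_spanUp_cent.2 ⟨h1.conj _, fun Z hZ => ?_⟩
    have h3 : Ad (gR g R)⁻¹ (up F R Z) ∈ spanUp k R (LieS k ρ) := by
      rw [← hc.mem_iff hρ hρF _ ((isDer_LieS hρF hZ).up.conj _), Ad_Ad_inv]
      exact mem_spanUp hZ
    have h4 := lie_of_mem_spanUp h2 h3
    apply Ad_injective (gR g R)⁻¹
    rw [Ad_lie, Ad_inv_Ad, h4, Ad_zero]

/-- conjugates of the points commuting with the `p`-torsion of the torus -/
theorem IsConj.fix_of_torsion (hc : IsConj F g ρ ρF) (hρ : IsSub k ρ) (hρF : IsSub F ρF) [Algebra.FiniteType k B]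
    [Algebra.FiniteType F BF] (p : ℕ) [CharP k p] (z : Pt k A R)
    (hz : ∀ (ψ : Pt k B (DualNumber R)), ψ ^ p = 1 →
      ptMap (inl k R) z * resPt ρ ψ = resPt ρ ψ * ptMap (inl k R) z)
    (Z : Cv k A F) (hZ : Z ∈ LieS F ρF) :
    Ad (gR g R * z * (gR g R)⁻¹) (up F R Z) = up F R Z := by
  have hd : IsDer (Ad (gR g R)⁻¹ (up F R Z)) := (isDer_LieS hρF hZ).up.conj _
  have h3 : Ad (gR g R)⁻¹ (up F R Z) ∈ spanUp k R (LieS k ρ) := by
    rw [← hc.mem_iff hρ hρF _ hd, Ad_Ad_inv]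
    exact mem_spanUp hZ
  obtain ⟨ψ, hψ⟩ := (mem_spanUp_LieS hρ _ hd).1 h3
  have h4 : ψ ^ p = 1 := by
    apply hρ.inj
    have h5 : (resPt ρ (ψ ^ p) : Pt k A (DualNumber R)) = (resPt ρ ψ) ^ p := hρ.pow (R := DualNumber R) ψ p
    have h6 : (exd (Ad (gR g R)⁻¹ (up F R Z)) hd : Pt k A (DualNumber R)) ^ p = 1 :=
      ex_pow (inl k R) DualNumber.eps (eps_mul_eps R) _ hd p (CharP.cast_eq_zero k p)
    rw [h5, hψ, h6, hρ.one]
  have h7 := hz ψ h4
  rw [hψ] at h7
  have h8 : Ad z (Ad (gR g R)⁻¹ (up F R Z)) = Ad (gR g R)⁻¹ (up F R Z) :=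
    (commute_ex_iff (inl k R) DualNumber.eps (eps_mul_eps R) eps_inj z _ hd).1 h7
  rw [← Ad_Ad, ← Ad_Ad, h8, Ad_Ad_inv]

end conj

section fix

variable {k K' F A BF : Type u} [Field k] [Field K'] [Algebra k K'] [Field F] [Algebra k F] [Algebra K' F]
  [IsScalarTower k K' F] [CommRing A] [HopfAlgebra k A] [CommRing BF] [HopfAlgebra F BF] [Algebra k BF]
  [IsScalarTower k F BF] {ρF : A →ₐ[k] BF}
variable {R : Type u} [CommRing R] [Algebra k R] [Algebra K' R] [Algebra F R] [IsScalarTower k F R]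
  [IsScalarTower k K' R] [IsScalarTower K' F R]

/-- **Points fixing the Lie algebra of the torus stabilize its centralizer.** -/
theorem stab_of_fix [Algebra.FiniteType k A] (W' : Submodule K' (Cv k A K'))
    (hW' : spanUp K' F W' = cent (LieS F ρF)) (φ : Pt k A R) (hφ : ∀ Z ∈ LieS F ρF, Ad φ (up F R Z) = up F R Z) :
    Stab W' φ := by
  have h0 : ∀ φ : Pt k A R, (∀ Z ∈ LieS F ρF, Ad φ (up F R Z) = up F R Z) → ∀ D ∈ W',
      Ad φ (up K' R D) ∈ spanUp K' R W' := by
    intro φ hφ D hD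
    have h1 : up K' F D ∈ cent (LieS F ρF) := by
      rw [← hW']
      exact mem_spanUp hD
    have h2 : (up K' R D : Cv k A R) = up F R (up K' F D) := (up_up D).symm
    rw [← spanUp_trans (F := F), hW', h2]
    refine mem_spanUp_cent.2 ⟨(h1.1.up).conj _, fun Z hZ => ?_⟩
    rw [← hφ Z hZ, ← Ad_lie, ← up_lie, h1.2 Z hZ, up_zero, Ad_zero]
  refine fun D hD => ⟨h0 φ hφ D hD, h0 φ⁻¹ (fun Z hZ => ?_) D hD⟩
  conv_lhs => rw [← hφ Z hZ]
  rw [Ad_inv_Ad]

/-- a point commuting with the points of the torus over the dual numbers fixes its Lie algebra -/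
theorem fix_of_comm (hρF : IsSub F ρF) (φ : Pt k A R)
    (hφ : ∀ ψ : Pt F BF (DualNumber R), ptMap (inl k R) φ * resPt ρF ψ = resPt ρF ψ * ptMap (inl k R) φ)
    (Z : Cv k A F) (hZ : Z ∈ LieS F ρF) : Ad φ (up F R Z) = up F R Z := by
  obtain ⟨δ, hδ, rfl⟩ := mem_LieS.1 hZ
  have h1 := hφ (exd (up F R δ) hδ.up)
  rw [resPt_exd hρF] at h1
  exact (commute_ex_iff (inl k R) DualNumber.eps (eps_mul_eps R) eps_inj φ _ _).1 h1

end fix

end

end K197.Rat
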