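import Groth.Agent.SGA3x.K197.RatDefs
import Mathlib.Algebra.Lie.OfAssociative
import Mathlib.Algebra.Lie.Subalgebra
import Mathlib.Algebra.DualNumber

/-!
# Convolution calculus: points, `ε`-derivations and the adjoint action

`A` a commutative Hopf algebra over the field `k`, `R` a commutative `k`-algebra.
* `Cv k A R`: the convolution algebra of the `k`-linear maps `A → R`; `Pt k A R`: the group of points of `Spec A`
  with values in `R`; `lin : Pt k A R →* Cv k A R`;
* `cvMap`, `ptMap`: change of `R`; `clin`: composition with a linear map;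
* `lie k A R`: the Lie algebra of the `ε`-derivations;
* `Ad g D = g * D * g⁻¹`.
-/

set_option autoImplicit false
universe u
open Coalgebra WithConv

namespace K197.Rat

/-- the convolution algebra -/
abbrev Cv (k A R : Type u) [Field k] [CommRing A] [HopfAlgebra k A] [CommRing R] [Algebra k R] : Type u :=
  WithConv (A →ₗ[k] R)

/-- the group of points -/
abbrev Pt (k A R : Type u) [Field k] [CommRing A] [HopfAlgebra k A] [CommRing R] [Algebra k R] : Type u :=
  WithConv (A →ₐ[k] R)

noncomputable section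

section grp

variable {k A R : Type u} [Field k] [CommRing A] [HopfAlgebra k A] [CommRing R] [Algebra k R]

instance instInvPt : Inv (WithConv (A →ₐ[k] R)) where
  inv f := toConv (f.ofConv.comp (HopfAlgebra.antipodeAlgHom k A))

instance instGroupPt : Group (WithConv (A →ₐ[k] R)) where
  inv_mul_cancel f := by
    apply WithConv.ext
    ext a
    rw [AlgHom.convMul_apply, AlgHom.convOne_apply]
    change Algebra.TensorProduct.lift (f.ofConv.comp (HopfAlgebra.antipodeAlgHom k A)) f.ofConv (fun _ _ ↦ .all _ _)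
      (comul a) = algebraMap k R (counit a)
    have h1 : Algebra.TensorProduct.lift (f.ofConv.comp (HopfAlgebra.antipodeAlgHom k A)) f.ofConv (fun _ _ ↦ .all _ _) =
        f.ofConv.comp ((Algebra.TensorProduct.lmul' k).comp
          (Algebra.TensorProduct.map (HopfAlgebra.antipodeAlgHom k A) (AlgHom.id k A))) := by
      ext <;> simp
    rw [h1]
    have h2 : ((Algebra.TensorProduct.lmul' k).comp
        (Algebra.TensorProduct.map (HopfAlgebra.antipodeAlgHom k A) (AlgHom.id k A))) (comul a) =
        algebraMap k A (counit a) := HopfAlgebra.mul_antipode_rTensor_comul_apply a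
    change f.ofConv (((Algebra.TensorProduct.lmul' k).comp
        (Algebra.TensorProduct.map (HopfAlgebra.antipodeAlgHom k A) (AlgHom.id k A))) (comul a)) = _
    rw [h2, AlgHom.commutes]

instance instLieRingCv : LieRing (WithConv (A →ₗ[k] R)) := LieRing.ofAssociativeRing

end grp

section basic

variable {k A R R' R'' : Type u} [Field k] [CommRing A] [HopfAlgebra k A] [CommRing R] [Algebra k R]
  [CommRing R'] [Algebra k R'] [CommRing R''] [Algebra k R'']

/-- the linear map underlying a point -/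
def lin : Pt k A R →* Cv k A R where
  toFun g := toConv g.ofConv.toLinearMap
  map_one' := rfl
  map_mul' _ _ := rfl

@[simp] lemma lin_apply (g : Pt k A R) (a : A) : (lin g : Cv k A R) a = g a := rfl

lemma lin_injective : Function.Injective (lin : Pt k A R → Cv k A R) := by
  intro g h e
  apply WithConv.ext
  ext a
  exact DFunLike.congr_fun (congrArg WithConv.ofConv e) a

lemma lin_mul_inv (g : Pt k A R) : lin g * lin g⁻¹ = 1 := by
  rw [← map_mul, mul_inv_cancel, map_one]

lemma lin_inv_mul (g : Pt k A R) : lin g⁻¹ * lin g = 1 := by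
  rw [← map_mul, inv_mul_cancel, map_one]

/-- change of the coefficients of linear maps -/
def cvMap (f : R →ₐ[k] R') : Cv k A R →+* Cv k A R' where
  toFun D := toConv (f.toLinearMap.comp D.ofConv)
  map_one' := by
    apply WithConv.ext
    ext a
    change f (algebraMap k R _) = algebraMap k R' _
    rw [f.commutes]
  map_mul' D D' := by
    apply WithConv.ext
    exact LinearMap.algHom_comp_convMul_distrib f D D'
  map_zero' := by
    apply WithConv.ext
    ext a
    exact map_zero f
  map_add' D D' := by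
    apply WithConv.ext
    ext a
    exact map_add f _ _

@[simp] lemma cvMap_apply (f : R →ₐ[k] R') (D : Cv k A R) (a : A) : (cvMap f D : Cv k A R') a = f (D a) := rfl

lemma cvMap_smul (f : R →ₐ[k] R') (r : R) (D : Cv k A R) : cvMap f (r • D) = f r • cvMap f D := by
  apply WithConv.ext
  ext a
  exact map_mul f r (D a)

lemma cvMap_comp (f : R →ₐ[k] R') (g : R' →ₐ[k] R'') (D : Cv k A R) : cvMap g (cvMap f D) = cvMap (g.comp f) D := rfl

lemma cvMap_id (D : Cv k A R) : cvMap (AlgHom.id k R) D = D := rfl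

/-- change of the coefficients of points -/
def ptMap (f : R →ₐ[k] R') : Pt k A R →* Pt k A R' where
  toFun g := toConv (f.comp g.ofConv)
  map_one' := by
    apply WithConv.ext
    ext a
    change f (algebraMap k R _) = algebraMap k R' _
    rw [f.commutes]
  map_mul' D D' := by
    apply WithConv.ext
    exact AlgHom.comp_convMul_distrib f D D'

@[simp] lemma ptMap_apply (f : R →ₐ[k] R') (g : Pt k A R) (a : A) : (ptMap f g : Pt k A R') a = f (g a) := rfl

lemma lin_ptMap (f : R →ₐ[k] R') (g : Pt k A R) : lin (ptMap f g) = cvMap f (lin g) := rfl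

lemma ptMap_comp (f : R →ₐ[k] R') (g : R' →ₐ[k] R'') (x : Pt k A R) : ptMap g (ptMap f x) = ptMap (g.comp f) x := rfl

/-- An `ε`-derivation, as an element of the convolution algebra. -/
def IsDer (D : Cv k A R) : Prop := D.ofConv ∈ eDer k A R

lemma isDer_iff {D : Cv k A R} : IsDer D ↔ ∀ a b : A, D (a * b) =
    algebraMap k R (counit (R := k) a) * D b + algebraMap k R (counit (R := k) b) * D a := Iff.rfl

lemma IsDer.map {D : Cv k A R} (h : IsDer D) (f : R →ₐ[k] R') : IsDer (cvMap f D) := by
  rw [isDer_iff] at h ⊢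
  intro a b
  rw [cvMap_apply, cvMap_apply, cvMap_apply, h, map_add, map_mul, map_mul, f.commutes, f.commutes]

lemma IsDer.one {D : Cv k A R} (h : IsDer D) : D 1 = 0 := by
  have h1 := isDer_iff.1 h 1 1
  rw [Bialgebra.counit_one, map_one, _root_.mul_one, _root_.one_mul] at h1
  exact left_eq_add.1 h1

lemma IsDer.map_algebraMap {D : Cv k A R} (h : IsDer D) (r : k) : D (algebraMap k A r) = 0 := by
  have h1 : D.ofConv (algebraMap k A r) = r • D.ofConv 1 := by
    rw [← map_smul, Algebra.algebraMap_eq_smul_one]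
  change D.ofConv (algebraMap k A r) = 0
  rw [h1]
  have h2 : D.ofConv 1 = 0 := h.one
  rw [h2, smul_zero]

lemma IsDer.add {D D' : Cv k A R} (h : IsDer D) (h' : IsDer D') : IsDer (D + D') := (eDer k A R).add_mem h h'

lemma IsDer.sub {D D' : Cv k A R} (h : IsDer D) (h' : IsDer D') : IsDer (D - D') := (eDer k A R).sub_mem h h'

lemma IsDer.neg {D : Cv k A R} (h : IsDer D) : IsDer (-D) := (eDer k A R).neg_mem h

lemma IsDer.smul {D : Cv k A R} (h : IsDer D) (r : R) : IsDer (r • D) := (eDer k A R).smul_mem r h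

lemma isDer_zero : IsDer (0 : Cv k A R) := (eDer k A R).zero_mem

/-- the value of a convolution product at a product -/
lemma conv_mul_apply (D D' : Cv k A R) (a b : A) :
    (D * D') (a * b) = ∑ i ∈ (ℛ k a).index, ∑ j ∈ (ℛ k b).index,
      D ((ℛ k a).left i * (ℛ k b).left j) * D' ((ℛ k a).right i * (ℛ k b).right j) := by
  rw [LinearMap.convMul_apply, Bialgebra.comul_mul, ← (ℛ k a).eq, ← (ℛ k b).eq, Finset.sum_mul_sum, map_sum, map_sum]
  refine Finset.sum_congr rfl fun i _ => ?_
  rw [map_sum, map_sum]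
  refine Finset.sum_congr rfl fun j _ => ?_
  rw [Algebra.TensorProduct.tmul_mul_tmul]
  rfl

lemma counit_conv (D : Cv k A R) (a : A) :
    ∑ i ∈ (ℛ k a).index, algebraMap k R (counit (R := k) ((ℛ k a).left i)) * D ((ℛ k a).right i) = D a := by
  have h : (1 * D) a = D a := by rw [_root_.one_mul]
  rw [(ℛ k a).convMul_apply] at h
  exact h

lemma conv_counit (D : Cv k A R) (a : A) :
    ∑ i ∈ (ℛ k a).index, D ((ℛ k a).left i) * algebraMap k R (counit (R := k) ((ℛ k a).right i)) = D a := by
  have h : (D * 1) a = D a := by rw [_root_.mul_one]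
  rw [(ℛ k a).convMul_apply] at h
  exact h

lemma counit_counit (a : A) :
    ∑ i ∈ (ℛ k a).index, algebraMap k R (counit (R := k) ((ℛ k a).left i)) *
      algebraMap k R (counit (R := k) ((ℛ k a).right i)) = algebraMap k R (counit (R := k) a) :=
  counit_conv (1 : Cv k A R) a

/-- the convolution product of two `ε`-derivations, at a product -/
lemma IsDer.mul_apply {D D' : Cv k A R} (h : IsDer D) (h' : IsDer D') (a b : A) :
    (D * D') (a * b) = algebraMap k R (counit (R := k) a) * (D * D') b + D b * D' a + D a * D' b +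
      (D * D') a * algebraMap k R (counit (R := k) b) := by
  rw [conv_mul_apply]
  rw [isDer_iff] at h h'
  have e : ∀ i j, D ((ℛ k a).left i * (ℛ k b).left j) * D' ((ℛ k a).right i * (ℛ k b).right j) =
      (algebraMap k R (counit (R := k) ((ℛ k a).left i)) * algebraMap k R (counit (R := k) ((ℛ k a).right i))) *
        (D ((ℛ k b).left j) * D' ((ℛ k b).right j)) +
      (algebraMap k R (counit (R := k) ((ℛ k a).left i)) * D' ((ℛ k a).right i)) *
        (D ((ℛ k b).left j) * algebraMap k R (counit (R := k) ((ℛ k b).right j))) +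
      (D ((ℛ k a).left i) * algebraMap k R (counit (R := k) ((ℛ k a).right i))) *
        (algebraMap k R (counit (R := k) ((ℛ k b).left j)) * D' ((ℛ k b).right j)) +
      (D ((ℛ k a).left i) * D' ((ℛ k a).right i)) *
        (algebraMap k R (counit (R := k) ((ℛ k b).left j)) * algebraMap k R (counit (R := k) ((ℛ k b).right j))) := by
    intro i j
    rw [h, h']
    ring
  simp_rw [e, Finset.sum_add_distrib, ← Finset.mul_sum, ← Finset.sum_mul]
  rw [counit_counit, counit_conv, conv_counit, conv_counit, counit_conv, counit_counit,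
    ← (ℛ k b).convMul_apply, ← (ℛ k a).convMul_apply]
  ring

/-- **The commutator of two `ε`-derivations is an `ε`-derivation.** -/
lemma IsDer.comm {D D' : Cv k A R} (h : IsDer D) (h' : IsDer D') : IsDer (D * D' - D' * D) := by
  rw [isDer_iff]
  intro a b
  have e : ∀ c, (D * D' - D' * D) c = (D * D') c - (D' * D) c := fun c => rfl
  rw [e, e, e, h.mul_apply h', h'.mul_apply h]
  ring

/-- the left multiplication by a point, at a product -/
lemma lin_mul_apply (g : Pt k A R) (D : Cv k A R) (a b : A) :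
    (lin g * D) (a * b) = ∑ i ∈ (ℛ k a).index, ∑ j ∈ (ℛ k b).index,
      (g ((ℛ k a).left i) * g ((ℛ k b).left j)) * D ((ℛ k a).right i * (ℛ k b).right j) := by
  rw [conv_mul_apply]
  refine Finset.sum_congr rfl fun i _ => Finset.sum_congr rfl fun j _ => ?_
  rw [lin_apply]
  congr 1
  exact map_mul g.ofConv _ _

/-- A `g`-derivation. -/
def IsDerAt (g : Pt k A R) (D : Cv k A R) : Prop :=
  ∀ a b : A, D (a * b) = g a * D b + g b * D a

lemma isDer_iff_at {D : Cv k A R} : IsDer D ↔ IsDerAt (1 : Pt k A R) D := Iff.rfl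

lemma IsDerAt.lin_mul {g : Pt k A R} {D : Cv k A R} (h : IsDerAt g D) (x : Pt k A R) :
    IsDerAt (x * g) (lin x * D) := by
  intro a b
  rw [lin_mul_apply]
  have e : ∀ i j, (x ((ℛ k a).left i) * x ((ℛ k b).left j)) * D ((ℛ k a).right i * (ℛ k b).right j) =
      (x ((ℛ k a).left i) * g ((ℛ k a).right i)) * (x ((ℛ k b).left j) * D ((ℛ k b).right j)) +
      (x ((ℛ k a).left i) * D ((ℛ k a).right i)) * (x ((ℛ k b).left j) * g ((ℛ k b).right j)) := by
    intro i j
    rw [h]
    ring
  simp_rw [e, Finset.sum_add_distrib, ← Finset.mul_sum, ← Finset.sum_mul]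
  have h1 : ∀ c : A, (x * g) c = ∑ i ∈ (ℛ k c).index, x ((ℛ k c).left i) * g ((ℛ k c).right i) := by
    intro c
    change (lin x * lin g) c = _
    rw [(ℛ k c).convMul_apply]
    rfl
  rw [h1, h1, (ℛ k a).convMul_apply, (ℛ k b).convMul_apply]
  simp only [lin_apply]
  ring

lemma IsDerAt.mul_lin {g : Pt k A R} {D : Cv k A R} (h : IsDerAt g D) (x : Pt k A R) :
    IsDerAt (g * x) (D * lin x) := by
  intro a b
  rw [conv_mul_apply]
  have e : ∀ i j, D ((ℛ k a).left i * (ℛ k b).left j) * (lin x : Cv k A R) ((ℛ k a).right i * (ℛ k b).right j) =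
      (g ((ℛ k a).left i) * x ((ℛ k a).right i)) * (D ((ℛ k b).left j) * x ((ℛ k b).right j)) +
      (D ((ℛ k a).left i) * x ((ℛ k a).right i)) * (g ((ℛ k b).left j) * x ((ℛ k b).right j)) := by
    intro i j
    have h2 : (lin x : Cv k A R) ((ℛ k a).right i * (ℛ k b).right j) =
        x ((ℛ k a).right i) * x ((ℛ k b).right j) := map_mul x.ofConv _ _
    rw [h, h2]
    ring
  simp_rw [e, Finset.sum_add_distrib, ← Finset.mul_sum, ← Finset.sum_mul]
  have h1 : ∀ c : A, (g * x) c = ∑ i ∈ (ℛ k c).index, g ((ℛ k c).left i) * x ((ℛ k c).right i) := by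
    intro c
    change (lin g * lin x) c = _
    rw [(ℛ k c).convMul_apply]
    rfl
  rw [h1, h1, (ℛ k a).convMul_apply, (ℛ k b).convMul_apply]
  simp only [lin_apply]
  ring

/-- the adjoint action -/
def Ad (g : Pt k A R) (D : Cv k A R) : Cv k A R := lin g * D * lin g⁻¹

lemma Ad_def (g : Pt k A R) (D : Cv k A R) : Ad g D = lin g * D * lin g⁻¹ := rfl

lemma Ad_mul (g : Pt k A R) (D D' : Cv k A R) : Ad g (D * D') = Ad g D * Ad g D' := by
  have h := lin_inv_mul g
  rw [Ad_def, Ad_def, Ad_def]
  calc lin g * (D * D') * lin g⁻¹ = lin g * D * 1 * D' * lin g⁻¹ := by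
        simp only [_root_.mul_assoc, _root_.one_mul]
    _ = _ := by rw [← h]; simp only [_root_.mul_assoc]

lemma Ad_add (g : Pt k A R) (D D' : Cv k A R) : Ad g (D + D') = Ad g D + Ad g D' := by
  rw [Ad_def, Ad_def, Ad_def, mul_add, add_mul]

lemma Ad_sub (g : Pt k A R) (D D' : Cv k A R) : Ad g (D - D') = Ad g D - Ad g D' := by
  rw [Ad_def, Ad_def, Ad_def, mul_sub, sub_mul]

lemma Ad_smul (g : Pt k A R) (r : R) (D : Cv k A R) : Ad g (r • D) = r • Ad g D := by
  rw [Ad_def, Ad_def, mul_smul_comm, smul_mul_assoc]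

lemma Ad_zero (g : Pt k A R) : Ad g (0 : Cv k A R) = 0 := by
  rw [Ad_def, mul_zero, zero_mul]

lemma Ad_one (D : Cv k A R) : Ad (1 : Pt k A R) D = D := by
  rw [Ad_def, inv_one, map_one, _root_.one_mul, _root_.mul_one]

lemma Ad_Ad (g h : Pt k A R) (D : Cv k A R) : Ad g (Ad h D) = Ad (g * h) D := by
  simp only [Ad_def, mul_inv_rev, map_mul, _root_.mul_assoc]

lemma Ad_inv_Ad (g : Pt k A R) (D : Cv k A R) : Ad g⁻¹ (Ad g D) = D := by
  rw [Ad_Ad, inv_mul_cancel, Ad_one]

lemma Ad_Ad_inv (g : Pt k A R) (D : Cv k A R) : Ad g (Ad g⁻¹ D) = D := by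
  rw [Ad_Ad, mul_inv_cancel, Ad_one]

lemma Ad_injective (g : Pt k A R) : Function.Injective (Ad g : Cv k A R → Cv k A R) := by
  intro D D' h
  rw [← Ad_inv_Ad g D, h, Ad_inv_Ad]

lemma Ad_lin (g x : Pt k A R) : Ad g (lin x) = lin (g * x * g⁻¹) := by
  rw [Ad_def, map_mul, map_mul]

lemma Ad_comm (g : Pt k A R) (D D' : Cv k A R) : Ad g (D * D' - D' * D) = Ad g D * Ad g D' - Ad g D' * Ad g D := by
  rw [Ad_sub, Ad_mul, Ad_mul]

/-- `Ad g D = D` is commutation -/
lemma Ad_eq_iff (g : Pt k A R) (D D' : Cv k A R) : Ad g D = D' ↔ lin g * D = D' * lin g := by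
  constructor
  · rintro rfl
    rw [Ad_def, _root_.mul_assoc, lin_inv_mul, _root_.mul_one]
  · intro h
    rw [Ad_def, h, _root_.mul_assoc, lin_mul_inv, _root_.mul_one]

lemma cvMap_Ad (f : R →ₐ[k] R') (g : Pt k A R) (D : Cv k A R) : cvMap f (Ad g D) = Ad (ptMap f g) (cvMap f D) := by
  rw [Ad_def, map_mul, map_mul, ← lin_ptMap, ← lin_ptMap, map_inv, Ad_def]

lemma IsDer.conj {D : Cv k A R} (h : IsDer D) (g : Pt k A R) : IsDer (Ad g D) := by
  have h0 : IsDerAt (1 : Pt k A R) D := h
  have h1 := (h0.lin_mul g).mul_lin g⁻¹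
  rw [_root_.mul_one, mul_inv_cancel] at h1
  exact h1

end basic

section lie

variable (k A R : Type u) [Field k] [CommRing A] [HopfAlgebra k A] [CommRing R] [Algebra k R]

/-- the Lie algebra of the `ε`-derivations -/
def lie : LieSubalgebra R (Cv k A R) where
  carrier := {D | IsDer D}
  add_mem' h h' := IsDer.add h h'
  zero_mem' := isDer_zero
  smul_mem' r _ h := IsDer.smul h r
  lie_mem' h h' := IsDer.comm h h'

variable {k A R}

lemma mem_lie {D : Cv k A R} : D ∈ lie k A R ↔ IsDer D := Iff.rfl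

lemma lie_eq (D D' : Cv k A R) : ⁅D, D'⁆ = D * D' - D' * D := rfl

lemma Ad_lie (g : Pt k A R) (D D' : Cv k A R) : Ad g ⁅D, D'⁆ = ⁅Ad g D, Ad g D'⁆ := Ad_comm g D D'

end lie

end

end K197.Rat
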