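import Groth.Agent.SGA3x.K197.RatConv
import Mathlib.LinearAlgebra.Dual.Lemmas
import Mathlib.LinearAlgebra.Basis.VectorSpace
import Mathlib.RingTheory.FiniteType

/-!
# Convolution calculus: linear change of coefficients, finiteness, coordinates, dual numbers

* `clin c D`: composition of `D : A → R` with an `S`-linear map `c : R → R'`;
* `exists_decomp`: an `ε`-derivation `A → R`, `R` an `F`-algebra, is a finite `R`-linear combination of
  `ε`-derivations `A → F` obtained from it by `F`-linear forms on `R`;
* `exists_coord`: coordinates on the Lie algebra given by elements of `A`;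
* `ex i e he D`: the point `1 + e D`, `e² = 0`; `exd D`: the case of the dual numbers.
-/

set_option autoImplicit false
universe u
open Coalgebra WithConv

namespace K197.Rat

noncomputable section

lemma cv_ext {k A R : Type u} [Field k] [CommRing A] [HopfAlgebra k A] [CommRing R] [Algebra k R] {D D' : Cv k A R}
    (h : ∀ a, D a = D' a) : D = D' := WithConv.ext (LinearMap.ext h)

lemma pt_ext {k A R : Type u} [Field k] [CommRing A] [HopfAlgebra k A] [CommRing R] [Algebra k R] {g g' : Pt k A R}
    (h : ∀ a, g a = g' a) : g = g' := WithConv.ext (AlgHom.ext h)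

section clin

variable {k A : Type u} [Field k] [CommRing A] [HopfAlgebra k A]
variable {S R R' : Type u} [CommRing S] [Algebra k S] [CommRing R] [Algebra k R] [Algebra S R] [IsScalarTower k S R]
  [CommRing R'] [Algebra k R'] [Algebra S R'] [IsScalarTower k S R']

/-- change of coefficients along `S → R` -/
def up (S R : Type u) [CommRing S] [Algebra k S] [CommRing R] [Algebra k R] [Algebra S R] [IsScalarTower k S R]
    (Z : Cv k A S) : Cv k A R := cvMap (IsScalarTower.toAlgHom k S R) Z

lemma up_apply (Z : Cv k A S) (a : A) : (up S R Z : Cv k A R) a = algebraMap S R (Z a) := rfl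

lemma up_mul (Z Z' : Cv k A S) : (up S R (Z * Z') : Cv k A R) = up S R Z * up S R Z' := map_mul _ _ _
lemma up_add (Z Z' : Cv k A S) : (up S R (Z + Z') : Cv k A R) = up S R Z + up S R Z' := map_add _ _ _
lemma up_sub (Z Z' : Cv k A S) : (up S R (Z - Z') : Cv k A R) = up S R Z - up S R Z' := map_sub _ _ _
lemma up_zero : (up S R (0 : Cv k A S) : Cv k A R) = 0 := map_zero _
lemma up_smul (s : S) (Z : Cv k A S) : (up S R (s • Z) : Cv k A R) = algebraMap S R s • up S R Z := cvMap_smul _ _ _
lemma up_lie (Z Z' : Cv k A S) : (up S R ⁅Z, Z'⁆ : Cv k A R) = ⁅up S R Z, up S R Z'⁆ := by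
  rw [lie_eq, lie_eq, up_sub, up_mul, up_mul]
lemma up_sum {ι : Type*} (s : Finset ι) (Z : ι → Cv k A S) :
    (up S R (∑ i ∈ s, Z i) : Cv k A R) = ∑ i ∈ s, up S R (Z i) := map_sum _ _ _
lemma up_injective (h : Function.Injective (algebraMap S R)) : Function.Injective (up S R : Cv k A S → Cv k A R) := by
  intro Z Z' e
  apply WithConv.ext
  ext a
  exact h (DFunLike.congr_fun (congrArg WithConv.ofConv e) a)

lemma IsDer.up {Z : Cv k A S} (h : IsDer Z) : IsDer (up S R Z : Cv k A R) := h.map _

lemma up_up {R₂ : Type u} [CommRing R₂] [Algebra k R₂] [Algebra S R₂] [Algebra R R₂] [IsScalarTower k S R₂]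
    [IsScalarTower k R R₂] [IsScalarTower S R R₂] (Z : Cv k A S) :
    (up R R₂ (up S R Z) : Cv k A R₂) = up S R₂ Z := by
  apply WithConv.ext
  ext a
  exact (IsScalarTower.algebraMap_apply S R R₂ (Z a)).symm

lemma up_self (Z : Cv k A S) : (up S S Z : Cv k A S) = Z := rfl

/-- composition with an `S`-linear map -/
def clin (c : R →ₗ[S] R') : Cv k A R →+ Cv k A R' where
  toFun D := toConv ((c.restrictScalars k).comp D.ofConv)
  map_zero' := by
    apply WithConv.ext
    ext a
    exact map_zero c
  map_add' D D' := by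
    apply WithConv.ext
    ext a
    exact map_add c _ _

@[simp] lemma clin_apply (c : R →ₗ[S] R') (D : Cv k A R) (a : A) : (clin c D : Cv k A R') a = c (D a) := rfl

lemma clin_smul (c : R →ₗ[S] R') (s : S) (D : Cv k A R) :
    clin c (algebraMap S R s • D) = algebraMap S R' s • clin c D := by
  apply WithConv.ext
  ext a
  change c (algebraMap S R s * D a) = algebraMap S R' s * c (D a)
  rw [← Algebra.smul_def, ← Algebra.smul_def, map_smul]

lemma clin_mul_up (c : R →ₗ[S] R') (D : Cv k A R) (Z : Cv k A S) :
    clin c (D * up S R Z) = clin c D * up S R' Z := by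
  apply WithConv.ext
  ext a
  change c ((D * up S R Z) a) = (clin c D * up S R' Z) a
  rw [(ℛ k a).convMul_apply, (ℛ k a).convMul_apply, map_sum]
  refine Finset.sum_congr rfl fun i _ => ?_
  rw [up_apply, up_apply, clin_apply, _root_.mul_comm, ← Algebra.smul_def, map_smul, Algebra.smul_def,
    _root_.mul_comm]

lemma clin_up_mul (c : R →ₗ[S] R') (D : Cv k A R) (Z : Cv k A S) :
    clin c (up S R Z * D) = up S R' Z * clin c D := by
  apply WithConv.ext
  ext a
  change c ((up S R Z * D) a) = (up S R' Z * clin c D) a
  rw [(ℛ k a).convMul_apply, (ℛ k a).convMul_apply, map_sum]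
  refine Finset.sum_congr rfl fun i _ => ?_
  rw [up_apply, up_apply, clin_apply, ← Algebra.smul_def, map_smul, Algebra.smul_def]

lemma clin_lie_up (c : R →ₗ[S] R') (D : Cv k A R) (Z : Cv k A S) :
    clin c ⁅D, up S R Z⁆ = ⁅clin c D, up S R' Z⁆ := by
  rw [lie_eq, lie_eq, map_sub, clin_mul_up, clin_up_mul]

lemma clin_up_lie (c : R →ₗ[S] R') (D : Cv k A R) (Z : Cv k A S) :
    clin c ⁅up S R Z, D⁆ = ⁅up S R' Z, clin c D⁆ := by
  rw [lie_eq, lie_eq, map_sub, clin_mul_up, clin_up_mul]

lemma IsDer.clin {D : Cv k A R} (h : IsDer D) (c : R →ₗ[S] R') : IsDer (clin c D) := by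
  rw [isDer_iff] at h ⊢
  intro a b
  change c (D (a * b)) = _ * c (D b) + _ * c (D a)
  rw [h, map_add]
  have e : ∀ (r : k) (x : R), c (algebraMap k R r * x) = algebraMap k R' r * c x := by
    intro r x
    rw [IsScalarTower.algebraMap_apply k S R, ← Algebra.smul_def, map_smul, Algebra.smul_def,
      ← IsScalarTower.algebraMap_apply k S R']
  rw [e, e]

end clin

section decomp

variable {k A : Type u} [Field k] [CommRing A] [HopfAlgebra k A] [Algebra.FiniteType k A]
variable {F R : Type u} [Field F] [Algebra k F] [CommRing R] [Algebra k R] [Algebra F R] [IsScalarTower k F R]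

omit [Algebra.FiniteType k A] in
/-- The values of an `ε`-derivation lie in the span of its values at generators. -/
lemma IsDer.mem_span {D : Cv k A R} (h : IsDer D) (s : Set A) (hs : Algebra.adjoin k s = ⊤) (a : A) :
    D a ∈ Submodule.span k ((fun b => D b) '' s) := by
  have ha : a ∈ Algebra.adjoin k s := by rw [hs]; trivial
  induction ha using Algebra.adjoin_induction with
  | mem x hx => exact Submodule.subset_span ⟨x, hx, rfl⟩
  | algebraMap r =>
    rw [h.map_algebraMap]
    exact Submodule.zero_mem _
  | add x y _ _ hx hy =>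
    have : D (x + y) = D x + D y := map_add D.ofConv x y
    rw [this]
    exact Submodule.add_mem _ hx hy
  | mul x y _ _ hx hy =>
    rw [isDer_iff.1 h, ← Algebra.smul_def, ← Algebra.smul_def]
    exact Submodule.add_mem _ (Submodule.smul_mem _ _ hy) (Submodule.smul_mem _ _ hx)

omit [Algebra.FiniteType k A] in
lemma IsDer.ext_of_adjoin {D D' : Cv k A R} (h : IsDer D) (h' : IsDer D') (s : Set A)
    (hs : Algebra.adjoin k s = ⊤) (e : ∀ a ∈ s, D a = D' a) : D = D' := by
  rw [← sub_eq_zero]
  apply WithConv.ext
  ext a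
  have h1 := (h.sub h').mem_span s hs a
  have h2 : ((fun b => (D - D') b) '' s) ⊆ {0} := by
    rintro _ ⟨b, hb, rfl⟩
    change D b - D' b = 0
    rw [e b hb, sub_self]
  have h3 := Submodule.span_mono (R := k) h2 h1
  rw [Submodule.span_zero_singleton] at h3
  exact (Submodule.mem_bot k).1 h3

/-- **Finite decomposition of `ε`-derivations.** -/
theorem exists_decomp {D : Cv k A R} (h : IsDer D) :
    ∃ (m : ℕ) (r : Fin m → R) (c : Fin m → (R →ₗ[F] F)), D = ∑ j, r j • up F R (clin (c j) D) := by
  classical
  obtain ⟨s, hs⟩ := (Algebra.FiniteType.out : (⊤ : Subalgebra k A).FG)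
  let M : Submodule F R := Submodule.span F ((fun b => D b) '' (s : Set A))
  have hMf : FiniteDimensional F M := FiniteDimensional.span_of_finite F (s.finite_toSet.image _)
  have hM : ∀ a, D a ∈ M := by
    intro a
    have h1 := h.mem_span (s : Set A) hs a
    have h2 : Submodule.span k ((fun b => D b) '' (s : Set A)) ≤ M.restrictScalars k := by
      rw [Submodule.span_le]
      exact Submodule.subset_span
    exact h2 h1
  obtain ⟨p, hp⟩ := M.subtype.exists_leftInverse_of_injective (LinearMap.ker_eq_bot.2 M.injective_subtype)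
  let b := Module.finBasis F M
  refine ⟨Module.finrank F M, fun j => (b j : R), fun j => (b.coord j).comp p, ?_⟩
  apply WithConv.ext
  ext a
  have h3 : p (D a) = ⟨D a, hM a⟩ := by
    have := LinearMap.congr_fun hp ⟨D a, hM a⟩
    exact this
  have h4 : (∑ j, (b j : R) • (up F R (clin ((b.coord j).comp p) D) : Cv k A R)).ofConv a =
      ∑ j, (b j : R) * algebraMap F R (b.coord j (p (D a))) := by
    have : ∀ (t : Finset (Fin (Module.finrank F M))),
        (∑ j ∈ t, (b j : R) • (up F R (clin ((b.coord j).comp p) D) : Cv k A R)).ofConv a =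
        ∑ j ∈ t, (b j : R) * algebraMap F R (b.coord j (p (D a))) := by
      intro t
      induction t using Finset.induction_on with
      | empty => rfl
      | insert i t hi ih =>
        rw [Finset.sum_insert hi, Finset.sum_insert hi, ← ih]
        rfl
    exact this _
  rw [h4, h3]
  have h5 := congrArg (fun z : M => (z : R)) (b.sum_repr ⟨D a, hM a⟩)
  simp only [Submodule.coe_sum, Submodule.coe_smul] at h5
  change D a = _
  refine h5.symm.trans (Finset.sum_congr rfl fun j _ => ?_)
  rw [Algebra.smul_def, _root_.mul_comm]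
  rfl

end decomp

section sums

variable {k A R : Type u} [Field k] [CommRing A] [HopfAlgebra k A] [CommRing R] [Algebra k R]

lemma sum_apply {ι : Type*} (s : Finset ι) (D : ι → Cv k A R) (a : A) : (∑ i ∈ s, D i) a = ∑ i ∈ s, D i a := by
  classical
  induction s using Finset.induction_on with
  | empty => rfl
  | insert i t hi ih =>
    rw [Finset.sum_insert hi, Finset.sum_insert hi, ← ih]
    rfl

lemma smul_apply' (r : R) (D : Cv k A R) (a : A) : (r • D) a = r * D a := rfl

lemma add_apply' (D D' : Cv k A R) (a : A) : (D + D') a = D a + D' a := rfl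

lemma sub_apply' (D D' : Cv k A R) (a : A) : (D - D') a = D a - D' a := rfl

lemma zero_apply' (a : A) : (0 : Cv k A R) a = 0 := rfl

lemma isDer_sum {ι : Type*} (s : Finset ι) (D : ι → Cv k A R) (h : ∀ i ∈ s, IsDer (D i)) : IsDer (∑ i ∈ s, D i) := by
  classical
  induction s using Finset.induction_on with
  | empty => exact isDer_zero
  | insert i t hi ih =>
    rw [Finset.sum_insert hi]
    exact (h i (Finset.mem_insert_self i t)).add (ih fun j hj => h j (Finset.mem_insert_of_mem hj))

end sums

section coord

variable (k A : Type u) [Field k] [CommRing A] [HopfAlgebra k A]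

/-- the Lie algebra over the field `E`, as a submodule of the convolution algebra -/
def Der (E : Type u) [CommRing E] [Algebra k E] : Submodule E (Cv k A E) where
  carrier := {D | IsDer D}
  add_mem' h h' := IsDer.add h h'
  zero_mem' := isDer_zero
  smul_mem' r _ h := IsDer.smul h r

variable {k A}

lemma mem_Der {E : Type u} [CommRing E] [Algebra k E] {D : Cv k A E} : D ∈ Der k A E ↔ IsDer D := Iff.rfl

/-- the values of the derivations at an element -/
def evD {E : Type u} [CommRing E] [Algebra k E] (a : A) : Cv k A E →ₗ[E] E where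
  toFun D := D a
  map_add' _ _ := rfl
  map_smul' _ _ := rfl

variable [Algebra.FiniteType k A]

instance (E : Type u) [Field E] [Algebra k E] : FiniteDimensional E (Der k A E) := by
  obtain ⟨s, hs⟩ := (Algebra.FiniteType.out : (⊤ : Subalgebra k A).FG)
  let f : Der k A E →ₗ[E] (s → E) := LinearMap.pi fun a => (evD a.1).comp (Der k A E).subtype
  refine FiniteDimensional.of_injective f ?_
  intro D D' h
  apply Subtype.ext
  refine IsDer.ext_of_adjoin D.2 D'.2 (s : Set A) hs fun a ha => ?_
  exact congrFun h ⟨a, ha⟩

/-- a basis of a finite-dimensional subspace of `Der k A E` with dual coordinates: `E = k` -/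
theorem exists_coord : ∃ (n : ℕ) (e : Fin n → Cv k A k) (x : Fin n → A), (∀ i, IsDer (e i)) ∧
    (∀ i j, e i (x j) = if i = j then 1 else 0) ∧
    ∀ (R : Type u) [CommRing R] [Algebra k R] (D : Cv k A R), IsDer D → D = ∑ i, D (x i) • up k R (e i) := by
  classical
  let b := Module.finBasis k (Der k A k)
  let n := Module.finrank k (Der k A k)
  let f : A →ₗ[k] Module.Dual k (Der k A k) :=
    { toFun := fun a => (evD a).comp (Der k A k).subtype
      map_add' := fun a a' => by
        ext D
        exact map_add D.1.ofConv a a'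
      map_smul' := fun r a => by
        ext D
        exact map_smul D.1.ofConv r a }
  have hf : Function.Surjective f := by
    have h1 : (LinearMap.range f).dualCoannihilator = ⊥ := by
      rw [eq_bot_iff]
      intro D hD
      rw [Submodule.mem_dualCoannihilator] at hD
      apply Subtype.ext
      apply WithConv.ext
      ext a
      exact hD _ ⟨a, rfl⟩
    rw [← LinearMap.range_eq_top, ← Subspace.dualCoannihilator_dualAnnihilator_eq (W := LinearMap.range f),
      h1, Submodule.dualAnnihilator_bot]
  choose x hx using fun j : Fin n => hf (b.coord j)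
  have hex : ∀ i j, (b i).1 (x j) = if i = j then 1 else 0 := by
    intro i j
    have h1 : (b i).1 (x j) = b.coord j (b i) := LinearMap.congr_fun (hx j) (b i)
    rw [h1, Module.Basis.coord_apply, Module.Basis.repr_self, Finsupp.single_apply]
  refine ⟨n, fun i => (b i).1, x, fun i => (b i).2, hex, fun R _ _ D hD => ?_⟩
  have hk : ∀ D : Cv k A k, IsDer D → D = ∑ i, D (x i) • (b i).1 := by
    intro D hD
    have h1 : ∑ i, (b.repr ⟨D, hD⟩ i) • (b i).1 = D := by
      have h0 := congrArg Subtype.val (b.sum_repr ⟨D, hD⟩)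
      rwa [Submodule.coe_sum] at h0
    refine h1.symm.trans (Finset.sum_congr rfl fun i _ => ?_)
    congr 1
    have h2 : D (x i) = (∑ j, (b.repr ⟨D, hD⟩ j) • (b j).1 : Cv k A k) (x i) := by rw [h1]
    rw [h2, sum_apply]
    simp only [smul_apply', hex]
    simp
  obtain ⟨m, r, c, h⟩ := exists_decomp (F := k) hD
  have h2 : ∀ j, (up k R (clin (c j) D) : Cv k A R) =
      ∑ i, algebraMap k R ((clin (c j) D : Cv k A k) (x i)) • up k R (b i).1 := by
    intro j
    rw [hk (clin (c j) D) (hD.clin (c j)), up_sum]
    refine Finset.sum_congr rfl fun i _ => ?_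
    rw [up_smul]
    congr 2
    rw [sum_apply]
    simp only [smul_apply', hex]
    simp
  have h3 : ∀ i, D (x i) = ∑ j, r j * algebraMap k R ((clin (c j) D : Cv k A k) (x i)) := by
    intro i
    conv_lhs => rw [h]
    rw [sum_apply]
    rfl
  conv_lhs => rw [h]
  simp_rw [h2, Finset.smul_sum, smul_smul]
  rw [Finset.sum_comm]
  refine Finset.sum_congr rfl fun i _ => ?_
  rw [h3, Finset.sum_smul]

end coord

section sqz

variable {k A R R₂ R₃ : Type u} [Field k] [CommRing A] [HopfAlgebra k A] [CommRing R] [Algebra k R]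
  [CommRing R₂] [Algebra k R₂] [CommRing R₃] [Algebra k R₃] (i : R →ₐ[k] R₂) (e : R₂) (he : e * e = 0)

/-- the point `1 + e D` -/
def ex (D : Cv k A R) (h : IsDer D) : Pt k A R₂ := toConv
  { toFun := fun a => algebraMap k R₂ (counit (R := k) a) + e * i (D a)
    map_one' := by rw [Bialgebra.counit_one, map_one, h.one, map_zero, mul_zero, add_zero]
    map_zero' := by
      have : D.ofConv 0 = 0 := map_zero _
      change _ + e * i (D.ofConv 0) = 0
      rw [map_zero, map_zero, this, map_zero, mul_zero, add_zero]
    map_add' := fun a b => by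
      have : D.ofConv (a + b) = D.ofConv a + D.ofConv b := map_add _ _ _
      change _ + e * i (D.ofConv (a + b)) = _ + e * i (D.ofConv a) + (_ + e * i (D.ofConv b))
      rw [map_add, map_add, this, map_add]
      ring
    map_mul' := fun a b => by
      rw [isDer_iff.1 h, Bialgebra.counit_mul, map_mul, map_add, map_mul, map_mul, i.commutes, i.commutes]
      linear_combination (-(i (D a) * i (D b))) * he
    commutes' := fun r => by
      rw [h.map_algebraMap, map_zero, mul_zero, add_zero]
      have : counit (R := k) (algebraMap k A r) = r := Bialgebra.counit_algebraMap r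
      rw [this] }

lemma ex_apply (D : Cv k A R) (h : IsDer D) (a : A) :
    (ex i e he D h) a = algebraMap k R₂ (counit (R := k) a) + e * i (D a) := rfl

/-- `1 + e D` in the convolution algebra -/
lemma lin_ex (D : Cv k A R) (h : IsDer D) : lin (ex i e he D h) = 1 + e • cvMap i D := rfl

lemma ex_congr {D D' : Cv k A R} {h : IsDer D} {h' : IsDer D'} (hD : D = D') : ex i e he D h = ex i e he D' h' := by
  subst hD; rfl

/-- **Conjugation of `1 + e D`.** -/
lemma conj_ex (g : Pt k A R) (D : Cv k A R) (h : IsDer D) :
    ptMap i g * ex i e he D h * (ptMap i g)⁻¹ = ex i e he (Ad g D) (h.conj g) := by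
  apply lin_injective
  rw [← Ad_lin, lin_ex, lin_ex, Ad_add, Ad_smul, cvMap_Ad]
  congr 1
  rw [← map_one lin, Ad_lin, _root_.mul_one, mul_inv_cancel]

lemma ex_injective (hinj : ∀ x : R, e * i x = 0 → x = 0) {D D' : Cv k A R} {h : IsDer D} {h' : IsDer D'}
    (hD : ex i e he D h = ex i e he D' h') : D = D' := by
  apply WithConv.ext
  ext a
  have h1 : algebraMap k R₂ (counit (R := k) a) + e * i (D a) = algebraMap k R₂ (counit (R := k) a) + e * i (D' a) :=
    DFunLike.congr_fun (congrArg WithConv.ofConv hD) a
  have h2 : e * i (D a - D' a) = 0 := by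
    rw [map_sub, mul_sub, sub_eq_zero]
    exact add_left_cancel h1
  exact sub_eq_zero.1 (hinj _ h2)

/-- Commutation with `1 + e D`. -/
lemma commute_ex_iff (hinj : ∀ x : R, e * i x = 0 → x = 0) (g : Pt k A R) (D : Cv k A R) (h : IsDer D) :
    ptMap i g * ex i e he D h = ex i e he D h * ptMap i g ↔ Ad g D = D := by
  rw [← mul_inv_eq_iff_eq_mul, conj_ex]
  constructor
  · exact fun e => ex_injective _ _ _ hinj e
  · intro e
    exact ex_congr _ _ _ e

lemma commute_ex (g : Pt k A R) (D : Cv k A R) (h : IsDer D) (hD : Ad g D = D) :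
    ptMap i g * ex i e he D h = ex i e he D h * ptMap i g := by
  rw [← mul_inv_eq_iff_eq_mul, conj_ex]
  exact ex_congr _ _ _ hD

lemma ptMap_ex (f : R₂ →ₐ[k] R₃) (D : Cv k A R) (h : IsDer D) :
    ptMap f (ex i e he D h) = ex (f.comp i) (f e) (by rw [← map_mul, he, map_zero]) D h := by
  apply WithConv.ext
  ext a : 1
  change f (algebraMap k R₂ (counit (R := k) a) + e * i (D a)) = algebraMap k R₃ (counit (R := k) a) + f e * f (i (D a))
  rw [map_add, f.commutes, map_mul]

lemma ex_cvMap (g : R₃ →ₐ[k] R) (D : Cv k A R₃) (h : IsDer D) :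
    ex i e he (cvMap g D) (h.map g) = ex (i.comp g) e he D h := rfl

end sqz

section dual

variable {k A R : Type u} [Field k] [CommRing A] [HopfAlgebra k A] [CommRing R] [Algebra k R]

/-- `R → R[ε]` -/
def inl (k R : Type u) [Field k] [CommRing R] [Algebra k R] : R →ₐ[k] DualNumber R := TrivSqZeroExt.inlAlgHom k R R

/-- `R[ε] → R` -/
def fst (k R : Type u) [Field k] [CommRing R] [Algebra k R] : DualNumber R →ₐ[k] R := TrivSqZeroExt.fstHom k R R

lemma inl_apply (r : R) : inl k R r = TrivSqZeroExt.inl r := rfl
lemma fst_apply (r : DualNumber R) : fst k R r = r.fst := rfl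

lemma eps_mul_eps (R : Type u) [CommRing R] : (DualNumber.eps : DualNumber R) * DualNumber.eps = 0 :=
  DualNumber.eps_mul_eps

lemma eps_inj (x : R) (h : (DualNumber.eps : DualNumber R) * inl k R x = 0) : x = 0 := by
  have h1 := congrArg TrivSqZeroExt.snd h
  rw [inl_apply] at h1
  simpa using h1

/-- the point `1 + ε D` with values in the dual numbers -/
abbrev exd (D : Cv k A R) (h : IsDer D) : Pt k A (DualNumber R) := ex (inl k R) DualNumber.eps (eps_mul_eps R) D h

/-- Points of `R[ε]` reducing to the unit. -/
lemma exists_ex (g : Pt k A (DualNumber R)) (hg : ptMap (fst k R) g = 1) :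
    ∃ (D : Cv k A R) (h : IsDer D), g = exd D h := by
  have hf : ∀ a, (g a).fst = algebraMap k R (counit (R := k) a) := fun a =>
    DFunLike.congr_fun (congrArg WithConv.ofConv hg) a
  let D : Cv k A R := toConv ((TrivSqZeroExt.sndHom R R).restrictScalars k ∘ₗ g.ofConv.toLinearMap)
  have hD : ∀ a, D a = (g a).snd := fun a => rfl
  have h : IsDer D := by
    rw [isDer_iff]
    intro a b
    rw [hD, hD, hD, ← hf, ← hf]
    have : g (a * b) = g a * g b := map_mul g.ofConv a b
    rw [this]
    simp
    ring
  refine ⟨D, h, ?_⟩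
  apply WithConv.ext
  ext a
  · change (g a).fst = (algebraMap k (DualNumber R) (counit (R := k) a) + DualNumber.eps * inl k R (D a)).fst
    rw [hf, inl_apply]
    simp [TrivSqZeroExt.algebraMap_eq_inl']
  · change (g a).snd = (algebraMap k (DualNumber R) (counit (R := k) a) + DualNumber.eps * inl k R (D a)).snd
    rw [← hD, inl_apply]
    simp [TrivSqZeroExt.algebraMap_eq_inl']

lemma fst_ex (D : Cv k A R) (h : IsDer D) : ptMap (fst k R) (exd D h) = 1 := by
  apply WithConv.ext
  ext a
  change (algebraMap k (DualNumber R) (counit (R := k) a) + DualNumber.eps * inl k R (D a)).fst =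
    algebraMap k R (counit (R := k) a)
  rw [inl_apply]
  simp [TrivSqZeroExt.algebraMap_eq_inl']

end dual

end

end K197.Rat
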