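import Groth.Agent.SGA3x.K197.RatZ

/-!
# The dimension of the stabilizer
-/

set_option autoImplicit false
set_option linter.unusedVariables false
set_option linter.unusedSectionVars false
universe u
open CategoryTheory MonoidalCategory CartesianMonoidalCategory MonObj GrpObj AlgebraicGeometry Limits
open Groth.Agent.Books.AffBridge WithConv TensorProduct Coalgebra

namespace K197.Rat

noncomputable section

section dim

variable {k K' F Ω A B BF BZ BH : Type u} [Field k] [Field K'] [Field F] [Field Ω] [Algebra k K'] [Algebra k F]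
  [Algebra k Ω] [Algebra K' F] [Algebra K' Ω] [Algebra F Ω] [IsScalarTower k K' F] [IsScalarTower k K' Ω]
  [IsScalarTower k F Ω] [IsScalarTower K' F Ω] [CommRing A] [HopfAlgebra k A] [Algebra.FiniteType k A]
  [CommRing B] [HopfAlgebra k B] [Algebra.FiniteType k B] [CommRing BF] [HopfAlgebra F BF] [Algebra k BF]
  [IsScalarTower k F BF] [Algebra.FiniteType F BF] [CommRing BZ] [HopfAlgebra k BZ] [Algebra.FiniteType k BZ]
  [CommRing BH] [HopfAlgebra K' BH] [Algebra k BH] [IsScalarTower k K' BH] [Algebra.FiniteType K' BH]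
  {g : Pt k A Ω} {ρ : A →ₐ[k] B} {ρF : A →ₐ[k] BF} {ρZ : A →ₐ[k] BZ} {ρH : A →ₐ[k] BH}

/-- **The stabilizer is at least as large as the centralizer of the torsion.** -/
theorem dim_le (h14 : N14_dim.{u}) (hc : IsConj F g ρ ρF) (hρ : IsSub k ρ) (hρF : IsSub F ρF) (hρZ : IsSub k ρZ)
    (W' : Submodule K' (Cv k A K')) (hW' : spanUp K' F W' = cent (LieS F ρF))
    (hStab : ∀ (R : Type u) [CommRing R] [Algebra k R] [Algebra K' R] [IsScalarTower k K' R] (φ : Pt k A R),
      (∃ ψ : Pt K' BH R, resPt ρH ψ = φ) ↔ Stab W' φ)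
    (p : ℕ) [CharP k p]
    (hZ : ∀ (R : Type u) [CommRing R] [Algebra k R] (φ : Pt k A R), (∃ ψ : Pt k BZ R, resPt ρZ ψ = φ) ↔
      ∀ (R' : Type u) [CommRing R'] [Algebra k R'] (f : R →ₐ[k] R') (ψ : Pt k B R'), ψ ^ p = 1 →
        ptMap f φ * resPt ρ ψ = resPt ρ ψ * ptMap f φ)
    (hZs : Function.Surjective ρZ) : ringKrullDim BZ ≤ ringKrullDim BH := by
  let z₀ : Pt k A BZ := resPt ρZ (toConv (AlgHom.id k BZ))
  have hz₀ := (hZ BZ z₀).1 ⟨toConv (AlgHom.id k BZ), rfl⟩
  let z : Pt k A (Ω ⊗[k] BZ) := ptMap (inR k Ω BZ) z₀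
  let G : Pt k A (Ω ⊗[k] BZ) := gR g (Ω ⊗[k] BZ)
  have hfix := hc.fix_of_torsion (R := Ω ⊗[k] BZ) hρ hρF p z (fun ψ hψ => by
    exact hz₀ (DualNumber (Ω ⊗[k] BZ)) ((inl k (Ω ⊗[k] BZ)).comp (inR k Ω BZ)) ψ hψ)
  have hstab : Stab W' (G * z * G⁻¹) := stab_of_fix (F := F) W' hW' _ hfix
  obtain ⟨ψ, hψ⟩ := (hStab (Ω ⊗[k] BZ) (G * z * G⁻¹)).2 hstab
  have hw : ∀ a, (G * z * G⁻¹) a = ψ (ρH a) := by
    intro a
    rw [← hψ]
    rfl
  refine h14 k K' Ω BZ BH ψ.ofConv.toRingHom ?_ ?_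
  · refine RingHom.ext fun x => ?_
    change ψ.ofConv (algebraMap K' BH x) = algebraMap Ω (Ω ⊗[k] BZ) (algebraMap K' Ω x)
    rw [AlgHom.commutes, ← IsScalarTower.algebraMap_apply K' Ω]
  · let M : Submodule Ω (Ω ⊗[k] BZ) := Submodule.span Ω (Set.range ψ.ofConv.toRingHom)
    have hM : ∀ b : BH, ψ.ofConv b ∈ M := fun b => Submodule.subset_span ⟨b, rfl⟩
    have hM' : ∀ (x : Ω) (m : Ω ⊗[k] BZ), m ∈ M → algebraMap Ω (Ω ⊗[k] BZ) x * m ∈ M := by
      intro x m hm
      rw [← Algebra.smul_def]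
      exact M.smul_mem x hm
    have hG : ∀ a, G a = algebraMap Ω (Ω ⊗[k] BZ) (g a) := fun a => rfl
    have hG' : ∀ a, G⁻¹ a = algebraMap Ω (Ω ⊗[k] BZ) (g⁻¹ a) := by
      intro a
      have h1 : G⁻¹ = ptMap (IsScalarTower.toAlgHom k Ω (Ω ⊗[k] BZ)) g⁻¹ := by
        rw [map_inv]
        rfl
      rw [h1]
      rfl
    have hz : ∀ a, z a ∈ M := by
      intro a
      have h1 : z = G⁻¹ * ((G * z * G⁻¹) * G) := by
        simp only [_root_.mul_assoc, inv_mul_cancel_left, inv_mul_cancel, _root_.mul_one]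
      have h2 : ∀ a, ((G * z * G⁻¹) * G) a ∈ M := by
        intro a
        change (lin (G * z * G⁻¹) * lin G) a ∈ M
        rw [(ℛ k a).convMul_apply]
        refine Submodule.sum_mem _ fun i _ => ?_
        rw [lin_apply, lin_apply, hw, hG, _root_.mul_comm]
        exact hM' _ _ (hM _)
      rw [h1]
      change (lin G⁻¹ * lin (((G * z * G⁻¹) * G))) a ∈ M
      rw [(ℛ k a).convMul_apply]
      refine Submodule.sum_mem _ fun i _ => ?_
      rw [lin_apply, lin_apply, hG']
      exact hM' _ _ (h2 _)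
    rw [eq_top_iff]
    intro x _
    change x ∈ M
    induction x using TensorProduct.induction_on with
    | zero => exact M.zero_mem
    | add x y hx hy => exact M.add_mem (hx trivial) (hy trivial)
    | tmul x y =>
      obtain ⟨a, rfl⟩ := hZs y
      have h1 : x ⊗ₜ[k] (ρZ a) = algebraMap Ω (Ω ⊗[k] BZ) x * z a := by
        change _ = (x ⊗ₜ[k] (1 : BZ)) * ((1 : Ω) ⊗ₜ[k] (ρZ a))
        rw [Algebra.TensorProduct.tmul_mul_tmul, _root_.mul_one, _root_.one_mul]
      rw [h1]
      exact hM' _ _ (hz a)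

/-- the Lie algebra, as in the nodes -/
lemma finrank_eDer (E B : Type u) [Field E] [CommRing B] [HopfAlgebra E B] :
    Module.finrank E (eDer E B E) = Module.finrank E (Der E B E) := by
  refine LinearEquiv.finrank_eq ?_
  exact { toFun := fun D => ⟨toConv D.1, D.2⟩
          invFun := fun D => ⟨D.1.ofConv, D.2⟩
          map_add' := fun _ _ => rfl
          map_smul' := fun _ _ => rfl
          left_inv := fun _ => rfl
          right_inv := fun _ => rfl }

lemma dim_specOver (E B : Type u) [Field E] [CommRing B] [Algebra E B] :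
    topologicalKrullDim (SpecOver E B).left = ringKrullDim B :=
  PrimeSpectrum.topologicalKrullDim_eq_ringKrullDim B

/-- **The stabilizer is smooth, of dimension the dimension of the centralizer.** -/
theorem dimH (h3 : N3_dim.{u}) (h14 : N14_dim.{u}) (hc : IsConj F g ρ ρF) (hρ : IsSub k ρ) (hρF : IsSub F ρF)
    (hρZ : IsSub k ρZ) (hρH : IsSub K' ρH)
    (W' : Submodule K' (Cv k A K')) (hW'd : ∀ D ∈ W', IsDer D) (hW' : spanUp K' F W' = cent (LieS F ρF))
    (hnorm : ∀ D : Cv k A K', IsDer D → (∀ y ∈ W', ⁅D, y⁆ ∈ W') → D ∈ W')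
    (hdim : Module.finrank K' W' = Module.finrank k (cent (LieS k ρ)))
    (hStab : ∀ (R : Type u) [CommRing R] [Algebra k R] [Algebra K' R] [IsScalarTower k K' R] (φ : Pt k A R),
      (∃ ψ : Pt K' BH R, resPt ρH ψ = φ) ↔ Stab W' φ)
    (p : ℕ) [CharP k p]
    (hZ : ∀ (R : Type u) [CommRing R] [Algebra k R] (φ : Pt k A R), (∃ ψ : Pt k BZ R, resPt ρZ ψ = φ) ↔
      ∀ (R' : Type u) [CommRing R'] [Algebra k R'] (f : R →ₐ[k] R') (ψ : Pt k B R'), ψ ^ p = 1 →
        ptMap f φ * resPt ρ ψ = resPt ρ ψ * ptMap f φ)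
    (hZs : Function.Surjective ρZ) [Smooth (SpecOver k BZ).hom] (hcent : cent (LieS k ρ) ≤ LieS k ρZ) :
    topologicalKrullDim (SpecOver K' BH).left = (Module.finrank k (cent (LieS k ρ)) : WithBot ℕ∞) ∧
      Smooth (SpecOver K' BH).hom := by
  -- upper bound
  have hW'f : FiniteDimensional K' W' :=
    Submodule.finiteDimensional_of_le (S₂ := Der k A K') (fun D hD => hW'd D hD)
  have h1 : Module.finrank K' (eDer K' BH K') ≤ Module.finrank k (cent (LieS k ρ)) := by
    rw [finrank_eDer, ← hdim]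
    let f : Der K' BH K' →ₗ[K'] W' :=
      { toFun := fun δ => ⟨rc ρH δ.1, by
          have hδ : IsDer δ.1 := δ.2
          have hd : IsDer (rc ρH δ.1 : Cv k A K') := hδ.rc hρH
          refine hnorm _ hd fun y hy => lie_mem_of_stab W' _ hd ?_ y hy
          rw [← hStab]
          exact ⟨exd δ.1 hδ, resPt_exd hρH δ.1 hδ⟩⟩
        map_add' := fun _ _ => rfl
        map_smul' := fun _ _ => rfl }
    refine LinearMap.finrank_le_finrank_of_injective (f := f) ?_
    intro δ δ' h
    apply Subtype.ext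
    exact hρH.rc_inj δ.2 δ'.2 (congrArg Subtype.val h)
  -- lower bound
  have h2 : Module.finrank k (cent (LieS k ρ)) ≤ Module.finrank k (eDer k BZ k) := by
    rw [finrank_eDer]
    have hf : FiniteDimensional k (LieS k ρZ) := by
      unfold LieS
      infer_instance
    refine (Submodule.finrank_mono hcent).trans ?_
    exact Submodule.finrank_map_le (rc ρZ) (Der k BZ k)
  have h4 : ringKrullDim BZ = (Module.finrank k (eDer k BZ k) : WithBot ℕ∞) := by
    rw [← dim_specOver k BZ]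
    exact (h3 k BZ).2.1 inferInstance
  have h5 := dim_le (ρH := ρH) h14 hc hρ hρF hρZ W' hW' hStab p hZ hZs
  have h6 := (h3 K' BH).1
  rw [dim_specOver] at h6
  have h7 : ringKrullDim BH = (Module.finrank k (cent (LieS k ρ)) : WithBot ℕ∞) := by
    apply le_antisymm
    · exact h6.trans (by exact_mod_cast h1)
    · refine le_trans ?_ h5
      rw [h4]
      exact_mod_cast h2
  rw [dim_specOver]
  refine ⟨h7, (h3 K' BH).2.2 ?_⟩
  rw [dim_specOver]
  apply le_antisymm h6
  rw [h7]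
  exact_mod_cast h1

end dim

end

end K197.Rat
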