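import Groth.Agent.SGA3x.K197.RatConj
import Groth.Agent.SGA3x.K197.RatNodes4
import Groth.Agent.SGA3x.K796.Dict

/-!
# Subgroup schemes and points
-/

set_option autoImplicit false
set_option linter.unusedVariables false
universe u
open CategoryTheory MonoidalCategory CartesianMonoidalCategory MonObj GrpObj AlgebraicGeometry Limits
open Groth.Agent.Books.AffBridge WithConv TensorProduct

namespace K197.Rat

noncomputable section

/-- points as morphisms -/
def spHom {k A R : Type u} [Field k] [CommRing A] [HopfAlgebra k A] [CommRing R] [Algebra k R] :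
    Pt k A R →* (SpecOver k R ⟶ SpecOver k A) where
  toFun φ := specMap k φ.ofConv
  map_one' := specMap_one k
  map_mul' := specMap_mul k

lemma spHom_apply {k A R : Type u} [Field k] [CommRing A] [HopfAlgebra k A] [CommRing R] [Algebra k R] (φ : Pt k A R) :
    spHom φ = specMap k φ.ofConv := rfl

lemma spHom_left {k A R : Type u} [Field k] [CommRing A] [HopfAlgebra k A] [CommRing R] [Algebra k R] (φ : Pt k A R) :
    (spHom φ).left = Spec.map (CommRingCat.ofHom φ.ofConv.toRingHom) := rfl

lemma spHom_injective {k A R : Type u} [Field k] [CommRing A] [HopfAlgebra k A] [CommRing R] [Algebra k R] :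
    Function.Injective (spHom : Pt k A R → (SpecOver k R ⟶ SpecOver k A)) := fun _ _ h =>
  WithConv.ofConv_injective (specMap_injective k h)

lemma spHom_surjective {k A R : Type u} [Field k] [CommRing A] [HopfAlgebra k A] [CommRing R] [Algebra k R] :
    Function.Surjective (spHom : Pt k A R → (SpecOver k R ⟶ SpecOver k A)) := fun f =>
  ⟨toConv (specPreimage k f), specMap_specPreimage k f⟩

lemma spHom_ptMap {k A R R' : Type u} [Field k] [CommRing A] [HopfAlgebra k A] [CommRing R] [Algebra k R]
    [CommRing R'] [Algebra k R'] (f : R →ₐ[k] R') (φ : Pt k A R) : spHom (ptMap f φ) = specMap k f ≫ spHom φ :=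
  specMap_comp k φ.ofConv f

lemma spHom_resPt {k A B R : Type u} [Field k] [CommRing A] [HopfAlgebra k A] [CommRing B] [HopfAlgebra k B]
    [CommRing R] [Algebra k R] (ρ : A →ₐ[k] B) (ψ : Pt k B R) : spHom (resPt ρ ψ) = spHom ψ ≫ specMap k ρ :=
  specMap_comp k ρ ψ.ofConv

lemma finiteType_of_lft {E B : Type u} [Field E] [CommRing B] [Algebra E B]
    (h : LocallyOfFiniteType (SpecOver E B).hom) : Algebra.FiniteType E B := by
  have h1 : LocallyOfFiniteType (Spec.map (CommRingCat.ofHom (algebraMap E B))) := h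
  rw [HasRingHomProperty.Spec_iff (P := @LocallyOfFiniteType)] at h1
  exact RingHom.finiteType_algebraMap.1 h1

/-- subgroups over `k` -/
theorem exists_sub {k A : Type u} [Field k] [CommRing A] [HopfAlgebra k A] (T : Over (Spec (CommRingCat.of k)))
    [GrpObj T] [IsAffine T.left] [LocallyOfFiniteType T.hom] (i : T ⟶ SpecOver k A) [IsMonHom i] [Mono i] :
    ∃ (B : Type u) (_ : CommRing B) (_ : HopfAlgebra k B) (ρ : A →ₐ[k] B) (e : T ≅ SpecOver k B), IsMonHom e.hom ∧
      e.inv ≫ i = specMap k ρ ∧ IsSub k ρ ∧ Algebra.FiniteType k B ∧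
      (IsClosedImmersion i.left → Function.Surjective ρ) := by
  obtain ⟨B, _, _, e, he⟩ := exists_hopf k T
  let f : SpecOver k B ⟶ SpecOver k A := e.inv ≫ i
  have hf : IsMonHom f := inferInstance
  have hfm : Mono f := inferInstance
  let ρ : A →ₐ[k] B := specPreimage k f
  have hρ : specMap k ρ = f := specMap_specPreimage k f
  refine ⟨B, inferInstance, inferInstance, ρ, e, he, hρ.symm, ?_, ?_, fun hi => ?_⟩
  · intro R _ i1 i2 i3
    have hi : i1 = i2 := Algebra.algebra_ext i1 i2 fun r =>
      DFunLike.congr_fun (@IsScalarTower.algebraMap_eq k k R _ _ _ _ i2 i1 i3) r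
    subst hi
    refine ⟨fun ψ ψ' => ?_, fun ψ ψ' h => ?_⟩
    · apply spHom_injective
      rw [map_mul]
      exact (spHom_resPt ρ (ψ * ψ')).trans (by
        rw [map_mul, hρ, MonObj.mul_comp]
        exact (congrArg₂ (· * ·) ((spHom_resPt ρ ψ).trans (by rw [hρ])) ((spHom_resPt ρ ψ').trans (by rw [hρ]))).symm)
    · apply spHom_injective
      have h1 := congrArg spHom h
      have h2 : spHom ψ ≫ specMap k ρ = spHom ψ' ≫ specMap k ρ :=
        (spHom_resPt ρ ψ).symm.trans (h1.trans (spHom_resPt ρ ψ'))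
      rw [hρ] at h2
      exact (cancel_mono f).1 h2
  · apply finiteType_of_lft
    have h1 : (SpecOver k B).hom = e.inv.left ≫ T.hom := (Over.w e.inv).symm
    rw [h1]
    infer_instance
  · have hiso : IsIso e.inv.left := inferInstanceAs (IsIso ((Over.forget _).map e.inv))
    have h1 : IsClosedImmersion (Spec.map (CommRingCat.ofHom ρ.toRingHom)) := by
      have h2 : Spec.map (CommRingCat.ofHom ρ.toRingHom) = e.inv.left ≫ i.left :=
        congrArg (fun f => f.left) hρ
      rw [h2]
      have h4 : IsClosedImmersion e.inv.left := IsClosedImmersion.instOfIsIsoScheme e.inv.left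
      exact MorphismProperty.comp_mem (W := @IsClosedImmersion) _ _ h4 hi
    have h2 := (IsClosedImmersion.isAffine_surjective_of_isAffine (Spec.map (CommRingCat.ofHom ρ.toRingHom))).2
    intro b
    obtain ⟨z, hz⟩ := h2 ((Scheme.ΓSpecIso _).inv.hom b)
    refine ⟨(Scheme.ΓSpecIso _).hom.hom z, ?_⟩
    have h5 := congrArg (fun q => q.hom z) (Scheme.ΓSpecIso_naturality (CommRingCat.ofHom ρ.toRingHom))
    refine h5.symm.trans ?_
    change (Scheme.ΓSpecIso _).hom.hom ((Spec.map (CommRingCat.ofHom ρ.toRingHom)).appTop.hom z) = b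
    rw [hz]
    exact congrArg (fun q => q.hom b) (Scheme.ΓSpecIso (CommRingCat.of B)).inv_hom_id

/-- points of a subgroup over `k` -/
theorem pts_iff {k A B : Type u} [Field k] [CommRing A] [HopfAlgebra k A] [CommRing B] [HopfAlgebra k B]
    {T : Over (Spec (CommRingCat.of k))} {i : T ⟶ SpecOver k A} {ρ : A →ₐ[k] B} (e : T ≅ SpecOver k B)
    (he : e.inv ≫ i = specMap k ρ) {R : Type u} [CommRing R] [Algebra k R] (φ : Pt k A R) :
    (∃ h : SpecOver k R ⟶ T, h ≫ i = specMap k φ.ofConv) ↔ ∃ ψ : Pt k B R, resPt ρ ψ = φ := by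
  constructor
  · rintro ⟨h, hh⟩
    obtain ⟨ψ, hψ⟩ := spHom_surjective (A := B) (h ≫ e.hom)
    refine ⟨ψ, spHom_injective ?_⟩
    refine (spHom_resPt ρ ψ).trans ?_
    rw [hψ, ← he, Category.assoc, Iso.hom_inv_id_assoc, hh]
    rfl
  · rintro ⟨ψ, rfl⟩
    refine ⟨spHom ψ ≫ e.inv, ?_⟩
    rw [Category.assoc, he]
    exact (spHom_resPt ρ ψ).symm

end

end K197.Rat
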