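import Groth.Agent.SGA3x.K197.RatGeo

/-!
# The generic torus and its points
-/

set_option autoImplicit false
set_option linter.unusedVariables false
universe u
open CategoryTheory MonoidalCategory CartesianMonoidalCategory MonObj GrpObj AlgebraicGeometry Limits
open Groth.Agent.Books.AffBridge WithConv TensorProduct

namespace K197.Rat

noncomputable section

section F

variable {k F A : Type u} [Field k] [Field F] [Algebra k F] [CommRing A] [HopfAlgebra k A]
  [Smooth (SpecOver k A).hom] {𝒯 : Over (Spec (CommRingCat.of k))} {Tu : Over 𝒯.left} [GrpObj Tu]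
  {iu : Tu ⟶ Red.bc 𝒯.hom (SpecOver k A)}

/-- the subgroup over `F` given by a field-valued point of the scheme of maximal tori -/
theorem exists_subF (h18 : N18_torus.{u}) (h12 : N12_dict.{u})
    (h𝒯 : SGA3x.RepresentsMaxTori (SpecOver k A) 𝒯 Tu iu) (x : Spec (CommRingCat.of F) ⟶ 𝒯.left)
    (hxk : x ≫ 𝒯.hom = bs k F) :
    ∃ (BF : Type u) (_ : CommRing BF) (_ : HopfAlgebra F BF) (_ : Algebra k BF) (_ : IsScalarTower k F BF)
      (ρF : A →ₐ[k] BF) (e : Red.bc x Tu ≅ SpecOver F BF), IsSub F ρF ∧ Algebra.FiniteType F BF ∧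
      e.inv.left ≫ pullback.fst Tu.hom x ≫ iu.left ≫ pullback.fst (SpecOver k A).hom 𝒯.hom =
        Spec.map (CommRingCat.ofHom ρF.toRingHom) := by
  have hAa : IsAffine (SpecOver k A).left := inferInstanceAs (IsAffine (Spec (CommRingCat.of A)))
  obtain ⟨j, hj, hjm, hjmono, haff, hcl, hlft, hjl⟩ := h18 k F (SpecOver k A) 𝒯 Tu iu h𝒯 x hxk
  obtain ⟨BF, _, _, _, _, ρF, e, he, h1, h2, h3⟩ := h12 k F A (Red.bc x Tu) j
  refine ⟨BF, inferInstance, inferInstance, inferInstance, inferInstance, ρF, e, ?_, ?_, ?_⟩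
  · intro R _ _ _ _
    exact ⟨(h2 R).1, (h2 R).2.1⟩
  · apply finiteType_of_lft
    have h4 : (SpecOver F BF).hom = e.inv.left ≫ (Red.bc x Tu).hom := (Over.w e.inv).symm
    rw [h4]
    have hiso : IsIso e.inv.left := inferInstanceAs (IsIso ((Over.forget _).map e.inv))
    infer_instance
  · rw [← h1, hjl]

omit [Smooth (SpecOver k A).hom] [GrpObj Tu] in
/-- the points of the subgroup over `F` -/
theorem ptsF_iff {BF : Type u} [CommRing BF] [HopfAlgebra F BF] [Algebra k BF] [IsScalarTower k F BF]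
    {ρF : A →ₐ[k] BF} {x : Spec (CommRingCat.of F) ⟶ 𝒯.left} (e : Red.bc x Tu ≅ SpecOver F BF)
    (he : e.inv.left ≫ pullback.fst Tu.hom x ≫ iu.left ≫ pullback.fst (SpecOver k A).hom 𝒯.hom =
        Spec.map (CommRingCat.ofHom ρF.toRingHom))
    {R : Type u} [CommRing R] [Algebra k R] [Algebra F R] [IsScalarTower k F R] (φ : Pt k A R) :
    (∃ ψ : Pt F BF R, resPt ρF ψ = φ) ↔ ∃ a : Spec (CommRingCat.of R) ⟶ Tu.left,
      a ≫ Tu.hom = bs F R ≫ x ∧ a ≫ iu.left ≫ pullback.fst (SpecOver k A).hom 𝒯.hom =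
        Spec.map (CommRingCat.ofHom φ.ofConv.toRingHom) := by
  obtain ⟨εi, hεi⟩ : ∃ ε : Spec (CommRingCat.of BF) ⟶ pullback Tu.hom x, ε = e.inv.left := ⟨_, rfl⟩
  obtain ⟨εh, hεh⟩ : ∃ ε : pullback Tu.hom x ⟶ Spec (CommRingCat.of BF), ε = e.hom.left := ⟨_, rfl⟩
  have h0 : εi ≫ pullback.snd Tu.hom x = bs F BF := by rw [hεi]; exact Over.w e.inv
  obtain ⟨u, hu⟩ : ∃ u : Tu.left ⟶ Spec (CommRingCat.of A),
      u = iu.left ≫ pullback.fst (SpecOver k A).hom 𝒯.hom := ⟨_, rfl⟩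
  have he' : εi ≫ pullback.fst Tu.hom x ≫ u = Spec.map (CommRingCat.ofHom ρF.toRingHom) := by
    rw [hεi, hu]; exact he
  have h4 : εh ≫ εi = 𝟙 _ := by rw [hεi, hεh]; exact congrArg (fun f => f.left) e.hom_inv_id
  constructor
  · rintro ⟨ψ, rfl⟩
    refine ⟨Spec.map (CommRingCat.ofHom ψ.ofConv.toRingHom) ≫ εi ≫ pullback.fst Tu.hom x, ?_, ?_⟩
    · rw [Category.assoc, Category.assoc, pullback.condition, reassoc_of% h0, ← Category.assoc]
      congr 1
      rw [← Spec.map_comp, ← CommRingCat.ofHom_comp]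
      congr 2
      exact ψ.ofConv.comp_algebraMap
    · have h1 : (Spec.map (CommRingCat.ofHom ψ.ofConv.toRingHom) ≫ εi ≫ pullback.fst Tu.hom x) ≫ u =
          Spec.map (CommRingCat.ofHom (resPt ρF ψ : Pt k A R).ofConv.toRingHom) := by
        rw [Category.assoc, Category.assoc, he', ← Spec.map_comp, ← CommRingCat.ofHom_comp]
        rfl
      rw [hu] at h1
      exact h1
  · rintro ⟨a, ha1, ha2⟩
    let a' : SpecOver F R ⟶ Red.bc x Tu := Over.homMk (pullback.lift a (bs F R) ha1) (pullback.lift_snd _ _ _)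
    refine ⟨toConv (specPreimage F (a' ≫ e.hom)), ?_⟩
    apply WithConv.ofConv_injective
    apply AlgHom.coe_ringHom_injective
    have h1 : CommRingCat.ofHom ((resPt ρF (toConv (specPreimage F (a' ≫ e.hom))) : Pt k A R).ofConv.toRingHom) =
        CommRingCat.ofHom φ.ofConv.toRingHom := by
      apply Spec.map_injective
      have ha2' : a ≫ u = Spec.map (CommRingCat.ofHom φ.ofConv.toRingHom) := by rw [hu]; exact ha2
      rw [← ha2']
      have h2 : CommRingCat.ofHom ((resPt ρF (toConv (specPreimage F (a' ≫ e.hom))) : Pt k A R).ofConv.toRingHom) =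
          CommRingCat.ofHom ρF.toRingHom ≫ CommRingCat.ofHom (specPreimage F (a' ≫ e.hom)).toRingHom := rfl
      rw [h2, Spec.map_comp, ← he']
      have h3 : Spec.map (CommRingCat.ofHom (specPreimage F (a' ≫ e.hom)).toRingHom) =
          pullback.lift a (bs F R) ha1 ≫ εh := by
        rw [hεh]
        exact congrArg (fun f => f.left) (specMap_specPreimage F (a' ≫ e.hom))
      rw [h3, Category.assoc, reassoc_of% h4, pullback.lift_fst_assoc]
    exact congrArg (fun f => f.hom) h1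

end F

section conj

variable {k F A : Type u} [Field k] [Field F] [Algebra k F] [CommRing A] [IsDomain A] [HopfAlgebra k A]
  [Smooth (SpecOver k A).hom] {𝒯 : Over (Spec (CommRingCat.of k))} {Tu : Over 𝒯.left} [GrpObj Tu]
  {iu : Tu ⟶ Red.bc 𝒯.hom (SpecOver k A)}

/-- the generic point of the group -/
def gen (k A : Type u) [Field k] [CommRing A] [IsDomain A] [HopfAlgebra k A] : Pt k A (FractionRing A) :=
  toConv (IsScalarTower.toAlgHom k A (FractionRing A))

/-- **The generic torus is conjugate to the torus `T`.** -/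
theorem isConj_of_N5 {T : Over (Spec (CommRingCat.of k))} {i : T ⟶ SpecOver k A}
    {x : Spec (CommRingCat.of F) ⟶ 𝒯.left} [Algebra F (FractionRing A)] [IsScalarTower k F (FractionRing A)]
    (h5 : ∀ (X : Over (Spec (CommRingCat.of k))) (g h : X ⟶ SpecOver k A)
      (ω : X.left ⟶ Spec (CommRingCat.of (FractionRing A)))
      (hω : ω ≫ Spec.map (CommRingCat.ofHom (algebraMap A (FractionRing A))) = g.left),
      (∃ a : X.left ⟶ Tu.left, a ≫ Tu.hom = ω ≫ bs F (FractionRing A) ≫ x ∧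
        a ≫ iu.left ≫ pullback.fst (SpecOver k A).hom 𝒯.hom = h.left) ↔
      ∃ b : X ⟶ T, h = g * (b ≫ i) * g⁻¹)
    {B : Type u} [CommRing B] [HopfAlgebra k B] {ρ : A →ₐ[k] B} (e : T ≅ SpecOver k B) (he : e.inv ≫ i = specMap k ρ)
    {BF : Type u} [CommRing BF] [HopfAlgebra F BF] [Algebra k BF] [IsScalarTower k F BF]
    {ρF : A →ₐ[k] BF} (eF : Red.bc x Tu ≅ SpecOver F BF)
    (heF : eF.inv.left ≫ pullback.fst Tu.hom x ≫ iu.left ≫ pullback.fst (SpecOver k A).hom 𝒯.hom =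
        Spec.map (CommRingCat.ofHom ρF.toRingHom)) :
    IsConj F (gen k A) ρ ρF := by
  intro R _ _ _ _ _ _ _ φ
  rw [ptsF_iff eF heF φ]
  have hω : bs (FractionRing A) R ≫ Spec.map (CommRingCat.ofHom (algebraMap A (FractionRing A))) =
      (spHom (gR (gen k A) R)).left := by
    rw [← Spec.map_comp, ← CommRingCat.ofHom_comp]
    rfl
  have h1 := h5 (SpecOver k R) (spHom (gR (gen k A) R)) (spHom φ) (bs (FractionRing A) R) hω
  have h2 : bs (FractionRing A) R ≫ bs F (FractionRing A) ≫ x = bs F R ≫ x := by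
    rw [← Category.assoc, ← Spec.map_comp, ← CommRingCat.ofHom_comp, ← IsScalarTower.algebraMap_eq]
  have h3 : (∃ a : Spec (CommRingCat.of R) ⟶ Tu.left,
      a ≫ Tu.hom = bs F R ≫ x ∧ a ≫ iu.left ≫ pullback.fst (SpecOver k A).hom 𝒯.hom =
        Spec.map (CommRingCat.ofHom φ.ofConv.toRingHom)) ↔
      ∃ b : SpecOver k R ⟶ T, spHom φ = spHom (gR (gen k A) R) * (b ≫ i) * (spHom (gR (gen k A) R))⁻¹ := by
    refine Iff.trans ?_ h1
    constructor
    · rintro ⟨a, ha, hb⟩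
      exact ⟨a, ha.trans h2.symm, hb⟩
    · rintro ⟨a, ha, hb⟩
      exact ⟨a, ha.trans h2, hb⟩
  refine h3.trans ?_
  constructor
  · rintro ⟨b, hb⟩
    obtain ⟨φ', hφ'⟩ := spHom_surjective (A := A) (b ≫ i)
    obtain ⟨ψ, hψ⟩ := (pts_iff e he φ').1 ⟨b, hφ'.symm⟩
    refine ⟨ψ, spHom_injective ?_⟩
    rw [hb, hψ, map_mul, map_mul, map_inv, hφ']
  · rintro ⟨ψ, hψ⟩
    obtain ⟨b, hb⟩ := (pts_iff e he _).2 ⟨ψ, rfl⟩
    refine ⟨b, ?_⟩
    rw [hb, hψ, map_mul, map_mul, map_inv]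
    rfl

omit [IsDomain A] [Smooth (SpecOver k A).hom] in
/-- the generic torus is commutative -/
theorem commF {Ω B BF : Type u} [Field Ω] [Algebra k Ω] [Algebra F Ω] [IsScalarTower k F Ω] [CommRing B]
    [HopfAlgebra k B] [CommRing BF] [HopfAlgebra F BF] [Algebra k BF] [IsScalarTower k F BF]
    {g : Pt k A Ω} {ρ : A →ₐ[k] B} {ρF : A →ₐ[k] BF} (hc : IsConj F g ρ ρF) (hρ : IsSub k ρ) (hρF : IsSub F ρF)
    (hcomm : ∀ (R : Type u) [CommRing R] [Algebra k R] (ψ ψ' : Pt k B R), ψ * ψ' = ψ' * ψ)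
    {R : Type u} [CommRing R] [Algebra k R] [Algebra F R] [IsScalarTower k F R] (ψ ψ' : Pt F BF R) :
    ψ * ψ' = ψ' * ψ := by
  apply ptMap_injective (inR F Ω R) (inR_injective F Ω R)
  apply hρF.inj
  rw [map_mul, map_mul, hρF.mul, hρF.mul]
  obtain ⟨χ, hχ⟩ := (hc (Ω ⊗[F] R) _).1 ⟨ptMap (inR F Ω R) ψ, rfl⟩
  obtain ⟨χ', hχ'⟩ := (hc (Ω ⊗[F] R) _).1 ⟨ptMap (inR F Ω R) ψ', rfl⟩
  rw [hχ, hχ']
  have h1 : ∀ a b : Pt k A (Ω ⊗[F] R), a * b = b * a → ∀ g : Pt k A (Ω ⊗[F] R),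
      g * a * g⁻¹ * (g * b * g⁻¹) = g * b * g⁻¹ * (g * a * g⁻¹) := by
    intro a b hab g
    have h2 : ∀ a b : Pt k A (Ω ⊗[F] R), g * a * g⁻¹ * (g * b * g⁻¹) = g * (a * b) * g⁻¹ := by
      intro a b
      simp only [_root_.mul_assoc, inv_mul_cancel_left]
    rw [h2, h2, hab]
  apply h1
  rw [← hρ.mul, ← hρ.mul, hcomm]

end conj

end

end K197.Rat
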