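import Groth.Agent.SGA3x.K197.RatDimH

/-!
# The generic torus and its centralizer lie in the stabilizer
-/

set_option autoImplicit false
set_option linter.unusedVariables false
set_option linter.unusedSectionVars false
universe u
open CategoryTheory MonoidalCategory CartesianMonoidalCategory MonObj GrpObj AlgebraicGeometry Limits
open Groth.Agent.Books.AffBridge WithConv TensorProduct Coalgebra

namespace K197.Rat

noncomputable section

section HC

variable {k K' F A BF BH : Type u} [Field k] [Field K'] [Field F] [Algebra k K'] [Algebra k F]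
  [Algebra K' F] [IsScalarTower k K' F] [CommRing A] [HopfAlgebra k A] [Algebra.FiniteType k A]
  [CommRing BF] [HopfAlgebra F BF] [Algebra k BF] [IsScalarTower k F BF]
  [CommRing BH] [HopfAlgebra K' BH] [Algebra k BH] [IsScalarTower k K' BH]
  {ρF : A →ₐ[k] BF} {ρH : A →ₐ[k] BH}
  {𝒯 : Over (Spec (CommRingCat.of k))} {Tu : Over 𝒯.left} [GrpObj Tu]
  {iu : Tu ⟶ Red.bc 𝒯.hom (SpecOver k A)} {x : Spec (CommRingCat.of F) ⟶ 𝒯.left}

/-- Points commuting with the generic torus are points of the stabilizer: the case of the spectrum of an algebra. -/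
theorem lift_specOver (eF : Red.bc x Tu ≅ SpecOver F BF)
    (heF : eF.inv.left ≫ pullback.fst Tu.hom x ≫ iu.left ≫ pullback.fst (SpecOver k A).hom 𝒯.hom =
        Spec.map (CommRingCat.ofHom ρF.toRingHom)) (hρF : IsSub F ρF)
    (W' : Submodule K' (Cv k A K')) (hW' : spanUp K' F W' = cent (LieS F ρF))
    (hStab : ∀ (R : Type u) [CommRing R] [Algebra k R] [Algebra K' R] [IsScalarTower k K' R] (φ : Pt k A R),
      (∃ ψ : Pt K' BH R, resPt ρH ψ = φ) ↔ Stab W' φ)
    {R : Type u} [CommRing R] [Algebra k R] [Algebra K' R] [Algebra F R] [IsScalarTower k F R] [IsScalarTower k K' R]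
    [IsScalarTower K' F R]
    (c : (Over.map (bs k F)).obj (SpecOver F R) ⟶ SpecOver k A)
    (hc : ∀ (X' : Over (Spec (CommRingCat.of F))) (y : X' ⟶ SpecOver F R) (b : (Over.map (bs k F)).obj X' ⟶ SpecOver k A),
        (∃ a : X'.left ⟶ Tu.left, a ≫ Tu.hom = X'.hom ≫ x ∧
          a ≫ iu.left ≫ pullback.fst (SpecOver k A).hom 𝒯.hom = b.left) →
          ((Over.map (bs k F)).map y ≫ c) * b = b * ((Over.map (bs k F)).map y ≫ c)) :
    ∃ ψ : Pt K' BH R, Spec.map (CommRingCat.ofHom (resPt ρH ψ : Pt k A R).ofConv.toRingHom) = c.left := by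
  obtain ⟨φ, hφ⟩ := spHom_surjective (A := A) ((K796.Dict.spO k F R).hom ≫ c)
  have hφl : Spec.map (CommRingCat.ofHom φ.ofConv.toRingHom) = c.left := by
    have h1 := congrArg (fun f => f.left) hφ
    refine h1.trans ?_
    change 𝟙 _ ≫ c.left = c.left
    rw [Category.id_comp]
  have hfix : ∀ Z ∈ LieS F ρF, Ad φ (up F R Z) = up F R Z := by
    refine fix_of_comm (k := k) hρF φ fun ψ => ?_
    obtain ⟨a, ha1, ha2⟩ := (ptsF_iff eF heF (resPt ρF ψ : Pt k A (DualNumber R))).1 ⟨ψ, rfl⟩
    let y : SpecOver F (DualNumber R) ⟶ SpecOver F R := specMap F (inl F R)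
    let b : (Over.map (bs k F)).obj (SpecOver F (DualNumber R)) ⟶ SpecOver k A :=
      (K796.Dict.spO k F (DualNumber R)).inv ≫ spHom (resPt ρF ψ : Pt k A (DualNumber R))
    have hb : b.left = Spec.map (CommRingCat.ofHom (resPt ρF ψ : Pt k A (DualNumber R)).ofConv.toRingHom) := by
      change 𝟙 _ ≫ Spec.map (CommRingCat.ofHom (resPt ρF ψ : Pt k A (DualNumber R)).ofConv.toRingHom) = _
      rw [Category.id_comp]
    have h1 := hc (SpecOver F (DualNumber R)) y b ⟨a, ha1, ha2.trans hb.symm⟩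
    have h2 := congrArg (fun f => (K796.Dict.spO k F (DualNumber R)).hom ≫ f) h1
    simp only [MonObj.comp_mul] at h2
    have h3 : (K796.Dict.spO k F (DualNumber R)).hom ≫ b = spHom (resPt ρF ψ : Pt k A (DualNumber R)) := by
      rw [Iso.hom_inv_id_assoc]
    have h4 : (K796.Dict.spO k F (DualNumber R)).hom ≫ (Over.map (bs k F)).map y ≫ c =
        spHom (ptMap (inl k R) φ) := by
      rw [spHom_ptMap, hφ, ← Category.assoc, ← Category.assoc]
      congr 1
    rw [h3, h4] at h2
    apply spHom_injective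
    exact (map_mul spHom _ _).trans (h2.trans (map_mul spHom _ _).symm)
  obtain ⟨ψ, hψ⟩ := (hStab R φ).2 (stab_of_fix (F := F) W' hW' φ hfix)
  exact ⟨ψ, by rw [hψ, hφl]⟩

/-- **Points commuting with the generic torus are points of the stabilizer.** -/
theorem lift_affine (eF : Red.bc x Tu ≅ SpecOver F BF)
    (heF : eF.inv.left ≫ pullback.fst Tu.hom x ≫ iu.left ≫ pullback.fst (SpecOver k A).hom 𝒯.hom =
        Spec.map (CommRingCat.ofHom ρF.toRingHom)) (hρF : IsSub F ρF)
    (W' : Submodule K' (Cv k A K')) (hW' : spanUp K' F W' = cent (LieS F ρF))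
    (hStab : ∀ (R : Type u) [CommRing R] [Algebra k R] [Algebra K' R] [IsScalarTower k K' R] (φ : Pt k A R),
      (∃ ψ : Pt K' BH R, resPt ρH ψ = φ) ↔ Stab W' φ)
    (j : SpecOver K' BH ⟶ Red.bc (bs k K') (SpecOver k A))
    (hj : j.left ≫ pullback.fst (SpecOver k A).hom (bs k K') = Spec.map (CommRingCat.ofHom ρH.toRingHom))
    (X : Over (Spec (CommRingCat.of F))) [IsAffine X.left]
    (c : (Over.map (bs k F)).obj X ⟶ SpecOver k A)
    (hc : ∀ (X' : Over (Spec (CommRingCat.of F))) (y : X' ⟶ X) (b : (Over.map (bs k F)).obj X' ⟶ SpecOver k A),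
        (∃ a : X'.left ⟶ Tu.left, a ≫ Tu.hom = X'.hom ≫ x ∧
          a ≫ iu.left ≫ pullback.fst (SpecOver k A).hom 𝒯.hom = b.left) →
          ((Over.map (bs k F)).map y ≫ c) * b = b * ((Over.map (bs k F)).map y ≫ c)) :
    ∃ h : X.left ⟶ (SpecOver K' BH).left, h ≫ (SpecOver K' BH).hom = X.hom ≫ bs K' F ∧
      h ≫ j.left ≫ pullback.fst (SpecOver k A).hom (bs k K') = c.left := by
  let R : CommRingCat := Γ(X.left, ⊤)
  let _ : Algebra F R := (Spec.preimage (X.left.isoSpec.inv ≫ X.hom)).hom.toAlgebra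
  have hR : X.left.isoSpec.inv ≫ X.hom = bs F R := (Spec.map_preimage (X.left.isoSpec.inv ≫ X.hom)).symm
  let _ : Algebra K' R := ((algebraMap F R).comp (algebraMap K' F)).toAlgebra
  let _ : Algebra k R := ((algebraMap F R).comp (algebraMap k F)).toAlgebra
  have h1 : IsScalarTower k F R := IsScalarTower.of_algebraMap_eq' rfl
  have h2 : IsScalarTower K' F R := IsScalarTower.of_algebraMap_eq' rfl
  have h3 : IsScalarTower k K' R := IsScalarTower.of_algebraMap_eq' (by
    rw [IsScalarTower.algebraMap_eq k F R, IsScalarTower.algebraMap_eq K' F R, RingHom.comp_assoc,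
      ← IsScalarTower.algebraMap_eq k K' F])
  let eX : SpecOver F R ≅ X := Over.isoMk X.left.isoSpec.symm hR
  obtain ⟨ψ, hψ⟩ := lift_specOver eF heF hρF W' hW' hStab ((Over.map (bs k F)).map eX.hom ≫ c) (fun X' y b hb => by
    have h4 := hc X' (y ≫ eX.hom) b hb
    rw [Functor.map_comp, Category.assoc] at h4
    exact h4)
  have h5 : Spec.map (CommRingCat.ofHom (resPt ρH ψ : Pt k A R).ofConv.toRingHom) = X.left.isoSpec.inv ≫ c.left := hψ
  refine ⟨X.left.isoSpec.hom ≫ Spec.map (CommRingCat.ofHom ψ.ofConv.toRingHom), ?_, ?_⟩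
  · have h6 : Spec.map (CommRingCat.ofHom ψ.ofConv.toRingHom) ≫ bs K' BH = bs F R ≫ bs K' F := by
      rw [← Spec.map_comp, ← CommRingCat.ofHom_comp, ← Spec.map_comp, ← CommRingCat.ofHom_comp,
        ← IsScalarTower.algebraMap_eq K' F R]
      congr 2
      exact ψ.ofConv.comp_algebraMap
    refine (Category.assoc _ _ _).trans ?_
    refine (congrArg (fun f => X.left.isoSpec.hom ≫ f) h6).trans ?_
    rw [← hR, Category.assoc, Iso.hom_inv_id_assoc]
  · have h7 : Spec.map (CommRingCat.ofHom ψ.ofConv.toRingHom) ≫ Spec.map (CommRingCat.ofHom ρH.toRingHom) =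
        X.left.isoSpec.inv ≫ c.left := by
      rw [← h5, ← Spec.map_comp, ← CommRingCat.ofHom_comp]
      rfl
    refine (Category.assoc _ _ _).trans ?_
    refine (congrArg (fun f => X.left.isoSpec.hom ≫ Spec.map (CommRingCat.ofHom ψ.ofConv.toRingHom) ≫ f) hj).trans ?_
    refine (congrArg (fun f => X.left.isoSpec.hom ≫ f) h7).trans ?_
    exact Iso.hom_inv_id_assoc _ _

end HC

end

end K197.Rat
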