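import Groth.Agent.SGA3x.K197.RatStep
import Groth.Agent.SGA3x.K20.Adj
import Groth.Agent.S4121
import Groth.Agent.S4132
import Groth.Agent.Sga4h.H926.CompH
import Groth.Agent.Sga3.H799.Bc

/-!
# Rationality of the scheme of maximal tori: the induction
-/

set_option autoImplicit false
set_option linter.unusedVariables false
set_option linter.unusedSectionVars false
universe u
open CategoryTheory MonoidalCategory CartesianMonoidalCategory MonObj GrpObj AlgebraicGeometry Limits
open Groth.Agent.Books.AffBridge WithConv TensorProduct Coalgebra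

namespace K197.Rat

noncomputable section

theorem m1 : M1_exists.{u} := fun k _ G _ _ _ => Groth.Agent.S4121.result k G

theorem m2 : M2_repr.{u} := by
  intro k _ G _ _ _
  obtain ⟨T, _, i, hi⟩ := Groth.Agent.S4121.result k G
  have h1 : SGA3x.HasMaxTorusFpqcLocally G := by
    refine ⟨Spec (CommRingCat.of k), 𝟙 _, inferInstance, inferInstance, fun V hV => ⟨V, hV.isCompact, ?_⟩,
      Red.bc (𝟙 _) T, inferInstance, _, Groth.Agent.Sga3.H799.Bc.isMaximalTorus_bc (𝟙 _) hi⟩
    ext x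
    simp
  obtain ⟨𝒯, Tu, _, iu, h, -⟩ := Groth.Agent.S4132.result (Spec (CommRingCat.of k)) G h1
  exact ⟨𝒯, Tu, inferInstance, iu, h⟩

/-- transport of the triviality of the reductive centre -/
theorem TRC.of_iso {k : Type u} [Field k] {G G' : Over (Spec (CommRingCat.of k))} [GrpObj G] [GrpObj G']
    (e : G ≅ G') [IsMonHom e.hom] (h : TRC G) : TRC G' := by
  intro S' f H _ v _ hH hv
  let M : Red.bc f G' ⟶ Red.bc f G := (Over.pullback f).map e.inv
  let M' : Red.bc f G ⟶ Red.bc f G' := (Over.pullback f).map e.hom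
  have hM : IsMonHom M := inferInstance
  have hM' : IsMonHom M' := inferInstance
  have hMM : M' ≫ M = 𝟙 _ := by
    rw [← Functor.map_comp, Iso.hom_inv_id]; exact (Over.pullback f).map_id _
  have hMM' : M ≫ M' = 𝟙 _ := by
    rw [← Functor.map_comp, Iso.inv_hom_id]; exact (Over.pullback f).map_id _
  have h1 := h S' f H (v ≫ M) hH (fun X x g => by
    have h2 := hv X x (g ≫ M')
    have h3 := congrArg (fun f => f ≫ M) h2
    simp only [MonObj.mul_comp] at h3
    rw [Category.assoc, Category.assoc, hMM, Category.comp_id] at h3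
    exact h3)
  have h4 : v = (v ≫ M) ≫ M' := by rw [Category.assoc, hMM', Category.comp_id]
  rw [h4, h1, MonObj.one_comp]

/-- reduction to the affine connected case with trivial reductive centre -/
theorem reduce {k : Type u} [Field k] (G : Over (Spec (CommRingCat.of k))) [GrpObj G] [Smooth G.hom]
    [QuasiCompact G.hom] (𝒯 : Over (Spec (CommRingCat.of k))) (Tu : Over 𝒯.left) [GrpObj Tu]
    (iu : Tu ⟶ Red.bc 𝒯.hom G) (h𝒯 : SGA3x.RepresentsMaxTori G 𝒯 Tu iu) :
    ∃ (A : Type u) (_ : CommRing A) (_ : IsDomain A) (_ : HopfAlgebra k A) (_ : Smooth (SpecOver k A).hom)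
      (Tu' : Over 𝒯.left) (_ : GrpObj Tu') (iu' : Tu' ⟶ Red.bc 𝒯.hom (SpecOver k A)),
      SGA3x.RepresentsMaxTori (SpecOver k A) 𝒯 Tu' iu' ∧ TRC (SpecOver k A) ∧
      topologicalKrullDim (SpecOver k A).left ≤ topologicalKrullDim G.left := by
  obtain ⟨G2, _, Tu2, _, iu2, h2, h2s, h2a, h2c, h2d, h2t⟩ := K20.Adj.exists_adjoint k G 𝒯 Tu iu h𝒯
  obtain ⟨A, _, _, e, he⟩ := exists_hopf k G2
  have hiso : IsIso e.hom.left := inferInstanceAs (IsIso ((Over.forget _).map e.hom))
  have hiso' : IsIso e.inv.left := inferInstanceAs (IsIso ((Over.forget _).map e.inv))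
  have hAs : Smooth (SpecOver k A).hom := by
    have h1 : (SpecOver k A).hom = e.inv.left ≫ G2.hom := (Over.w e.inv).symm
    rw [h1]
    infer_instance
  have hAc : ConnectedSpace (SpecOver k A).left := by
    have h1 : Surjective e.hom.left := inferInstance
    exact h1.surj.connectedSpace e.hom.left.continuous
  have hint : IsIntegral (SpecOver k A).left := Groth.Agent.Sga4h.H926.CompH.isIntegral_of_connected (SpecOver k A).hom
  have hdom : IsDomain A := by
    have h1 : IsIntegral (Spec (CommRingCat.of A)) := hint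
    exact (affine_isIntegral_iff (CommRingCat.of A)).1 h1
  obtain ⟨Tu3, _, iu3, h3⟩ := K20.AdjPt.of_quotient h2 e.hom (fun X z g hz => by
    have h4 : z = 1 := by
      rw [← cancel_mono e.hom, hz, MonObj.one_comp]
    rw [h4, _root_.one_mul, _root_.mul_one])
  refine ⟨A, inferInstance, hdom, inferInstance, hAs, Tu3, inferInstance, iu3, h3, TRC.of_iso e h2t, ?_⟩
  refine le_trans ?_ h2d
  exact (e.inv.left.homeomorph.isClosedEmbedding.isInducing.topologicalKrullDim_le)

/-- **Induction.** -/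
theorem indHyp (N : Nodes.{u}) (n : ℕ) : IndHyp.{u} n := by
  induction n using Nat.strong_induction_on with
  | _ n ih =>
    intro k _ _ G _ _ _ 𝒯 Tu _ iu h𝒯 F _ _ x hx hxk hgen hdim
    obtain ⟨A, _, _, _, _, Tu', _, iu', h𝒯', hT, hd⟩ := reduce G 𝒯 Tu iu h𝒯
    exact step N hT n (hd.trans hdim.le) ih 𝒯 Tu' iu' h𝒯' x hx hxk hgen

/-- **The scheme of maximal tori is rational.** -/
theorem rational (N : Nodes.{u}) (h2 : N2_exists_open.{u}) (k : Type u) [Field k] [Infinite k]
    (G : Over (Spec (CommRingCat.of k))) [GrpObj G] [Smooth G.hom] [QuasiCompact G.hom]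
    (𝒯 : Over (Spec (CommRingCat.of k))) (Tu : Over 𝒯.left) [GrpObj Tu] (iu : Tu ⟶ Red.bc 𝒯.hom G)
    (h𝒯 : SGA3x.RepresentsMaxTori G 𝒯 Tu iu) :
    ∃ (n : ℕ) (U : 𝒯.left.Opens) (V : (AffineSpace (ULift.{u} (Fin n)) (Spec (CommRingCat.of k))).Opens)
      (e : (U : Scheme.{u}) ≅ (V : Scheme.{u})),
      (U : Set ↥𝒯.left).Nonempty ∧
      e.hom ≫ V.ι ≫ (AffineSpace (ULift.{u} (Fin n)) (Spec (CommRingCat.of k)) ↘ (Spec (CommRingCat.of k))) =
        U.ι ≫ 𝒯.hom := by
  obtain ⟨h𝒯s, h𝒯a, h𝒯i⟩ := N.n10 k G 𝒯 Tu iu h𝒯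
  have hint : IsIntegral 𝒯.left := Groth.Agent.Sga4h.H926.CompH.isIntegral_of_connected 𝒯.hom
  obtain ⟨A, _, _, _, _, Tu', _, iu', h𝒯', hT, hd⟩ := reduce G 𝒯 Tu iu h𝒯
  have hAf : Algebra.FiniteType k A := finiteType_of_lft inferInstance
  let ξ : 𝒯.left := genericPoint 𝒯.left
  let F := 𝒯.left.residueField ξ
  let x : Spec (CommRingCat.of F) ⟶ 𝒯.left := 𝒯.left.fromSpecResidueField ξ
  let _ : Algebra k F := (Spec.preimage (x ≫ 𝒯.hom)).hom.toAlgebra
  have hxk : x ≫ 𝒯.hom = bs k F := (Spec.map_preimage (x ≫ 𝒯.hom)).symm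
  have hx : IsResidue x := ⟨ξ, Iso.refl _, by
    rw [Iso.refl_hom]
    exact (by rw [Spec.map_id, Category.id_comp] : Spec.map (𝟙 (𝒯.left.residueField ξ)) ≫ 𝒯.left.fromSpecResidueField ξ =
      𝒯.left.fromSpecResidueField ξ).symm⟩
  have hgen : closure {x (IsLocalRing.closedPoint F)} = Set.univ := by
    have h1 : x (IsLocalRing.closedPoint F) = ξ := 𝒯.left.fromSpecResidueField_apply ξ _
    rw [h1]
    exact genericPoint_closure 𝒯.left
  have hPT : PT k F := step N hT (Module.finrank k (eDer k A k)) (N.n3 k A).1 (fun m _ => indHyp N m) 𝒯 Tu' iu' h𝒯' x hx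
    hxk hgen
  exact h2 k F 𝒯 x hx hxk hgen hPT

end

end K197.Rat
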