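import Groth.Agent.SGA3x.K197.RatHC
import Groth.Agent.Sga3B.TorusAlgClosed

/-!
# Rationality of the scheme of maximal tori: the induction step
-/

set_option autoImplicit false
set_option linter.unusedVariables false
set_option linter.unusedSectionVars false
universe u
open CategoryTheory MonoidalCategory CartesianMonoidalCategory MonObj GrpObj AlgebraicGeometry Limits
open Groth.Agent.Books.AffBridge WithConv TensorProduct Coalgebra

namespace K197.Rat

noncomputable section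

/-- existence of maximal tori -/
def M1_exists : Prop :=
  ∀ (k : Type u) [Field k] (G : Over (Spec (CommRingCat.of k))) [GrpObj G] [Smooth G.hom] [QuasiCompact G.hom],
    ∃ (T : Over (Spec (CommRingCat.of k))) (_ : GrpObj T) (i : T ⟶ G), Red.IsMaximalTorus i

/-- existence of the scheme of maximal tori -/
def M2_repr : Prop :=
  ∀ (k : Type u) [Field k] (G : Over (Spec (CommRingCat.of k))) [GrpObj G] [Smooth G.hom] [IsAffine G.left],
    ∃ (𝒯 : Over (Spec (CommRingCat.of k))) (Tu : Over 𝒯.left) (_ : GrpObj Tu) (iu : Tu ⟶ Red.bc 𝒯.hom G),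
      SGA3x.RepresentsMaxTori G 𝒯 Tu iu

/-- the nodes used in the induction step -/
structure Nodes : Prop where
  m1 : M1_exists.{u}
  m2 : M2_repr.{u}
  n3 : N3_dim.{u}
  n5 : N5_generic.{u}
  n6 : N6_descent.{u}
  n9c : N9_count.{u}
  n9t : N9_trans.{u}
  n10 : N10_smooth.{u}
  n11 : N11_torsionCent.{u}
  n12 : N12_dict.{u}
  n14 : N14_dim.{u}
  n18 : N18_torus.{u}
  p1 : P1_nil.{u}
  p2 : P2_reg.{u}
  p3 : P3_trans.{u}
  p4 : P4_stab.{u}
  s1 : S1_split.{u}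
  s3 : S3_triv.{u}
  s4 : S4_dims.{u}

/-- trivial reductive centre, universally -/
def TRC {k : Type u} [Field k] (G : Over (Spec (CommRingCat.of k))) [GrpObj G] : Prop :=
  ∀ (S' : Scheme.{u}) (f : S' ⟶ Spec (CommRingCat.of k)) (H : Over S') [GrpObj H] (v : H ⟶ Red.bc f G)
    [IsMonHom v], SGA3x.IsMultTypeFT H →
    (∀ (X : Over S') (x : X ⟶ H) (g : X ⟶ Red.bc f G), (x ≫ v) * g = g * (x ≫ v)) → v = 1

/-- the induction hypothesis, in dimension `m` -/
def IndHyp (m : ℕ) : Prop :=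
  ∀ (k : Type u) [Field k] [Infinite k] (G : Over (Spec (CommRingCat.of k))) [GrpObj G] [Smooth G.hom] [IsAffine G.left]
    (𝒯 : Over (Spec (CommRingCat.of k))) (Tu : Over 𝒯.left) [GrpObj Tu] (iu : Tu ⟶ Red.bc 𝒯.hom G)
    (h𝒯 : SGA3x.RepresentsMaxTori G 𝒯 Tu iu) (F : Type u) [Field F] [Algebra k F]
    (x : Spec (CommRingCat.of F) ⟶ 𝒯.left) (hx : IsResidue x) (hxk : x ≫ 𝒯.hom = bs k F)
    (hgen : closure {x (IsLocalRing.closedPoint F)} = Set.univ)
    (hdim : topologicalKrullDim G.left = (m : WithBot ℕ∞)), PT k F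

section step2

variable {k K' F A B BF : Type u} [Field k] [Infinite k] [Field K'] [Field F] [Algebra k K'] [Algebra k F]
  [Algebra K' F] [IsScalarTower k K' F] [CommRing A] [IsDomain A] [HopfAlgebra k A] [Algebra.FiniteType k A]
  [Smooth (SpecOver k A).hom]
  [Algebra F (FractionRing A)] [Algebra K' (FractionRing A)] [IsScalarTower k F (FractionRing A)]
  [IsScalarTower k K' (FractionRing A)] [IsScalarTower K' F (FractionRing A)]
  [CommRing B] [HopfAlgebra k B] [Algebra.FiniteType k B]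
  [CommRing BF] [HopfAlgebra F BF] [Algebra k BF] [IsScalarTower k F BF] [Algebra.FiniteType F BF]
  {ρ : A →ₐ[k] B} {ρF : A →ₐ[k] BF}
  {K : Type u} [Field K] [Algebra k K] {r : ℕ} {t : Pt k A (GA K (Fin r → ℤ))}
  {𝒯 : Over (Spec (CommRingCat.of k))} {Tu : Over 𝒯.left} [GrpObj Tu]
  {iu : Tu ⟶ Red.bc 𝒯.hom (SpecOver k A)} {x : Spec (CommRingCat.of F) ⟶ 𝒯.left}
  {T : Over (Spec (CommRingCat.of k))} [GrpObj T] {i : T ⟶ SpecOver k A}

/-- The second half of the induction step. -/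
theorem step2 (N : Nodes.{u}) (n : ℕ)
    (hn : topologicalKrullDim (SpecOver k A).left ≤ (n : WithBot ℕ∞)) (IH : ∀ m < n, IndHyp.{u} m)
    (h𝒯 : SGA3x.RepresentsMaxTori (SpecOver k A) 𝒯 Tu iu) (hx : IsResidue x) (hxk : x ≫ 𝒯.hom = bs k F)
    (hgen : closure {x (IsLocalRing.closedPoint F)} = Set.univ)
    (hit : Red.IsTorus T) [IsMonHom i] (e : T ≅ SpecOver k B) [IsMonHom e.hom] (heρ : e.inv ≫ i = specMap k ρ)
    (hρ : IsSub k ρ) (hHP : HasPts t ρ) (ht : IsHomT t)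
    (eF : Red.bc x Tu ≅ SpecOver F BF) (hρF : IsSub F ρF)
    (heF : eF.inv.left ≫ pullback.fst Tu.hom x ≫ iu.left ≫ pullback.fst (SpecOver k A).hom 𝒯.hom =
        Spec.map (CommRingCat.ofHom ρF.toRingHom))
    (hc : IsConj F (gen k A) ρ ρF) (hlt : cent (LieS k ρ) ≠ Der k A k)
    (q : ℕ) (v : Fin q → K') (hv : IntermediateField.adjoin k (Set.range v) = ⊤)
    (hq : Module.finrank k (Der k A k) = Module.finrank k (cent (LieS k ρ)) + q)
    (W' : Submodule K' (Cv k A K')) (hW'd : ∀ D ∈ W', IsDer D)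
    (hdim : Module.finrank K' W' = Module.finrank k (cent (LieS k ρ)))
    (hW' : spanUp K' F W' = cent (LieS F ρF))
    (hnorm : ∀ D : Cv k A K', IsDer D → (∀ y ∈ W', ⁅D, y⁆ ∈ W') → D ∈ W') : PT k F := by
  have hAa : IsAffine (SpecOver k A).left := inferInstanceAs (IsAffine (Spec (CommRingCat.of A)))
  -- the stabilizer
  obtain ⟨BH, _, _, _, _, ρH, jH, hjm, hjcl, hBHf, hjl, hspan, hH⟩ := N.p4 k K' A W' hW'd
  have hρH : IsSub K' ρH := fun R _ _ _ _ => ⟨(hH R).1, (hH R).2.1⟩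
  have hStab : ∀ (R : Type u) [CommRing R] [Algebra k R] [Algebra K' R] [IsScalarTower k K' R] (φ : Pt k A R),
      (∃ ψ : Pt K' BH R, resPt ρH ψ = φ) ↔ Stab W' φ := fun R _ _ _ _ φ => (hH R).2.2 φ
  have hHa : IsAffine (SpecOver K' BH).left := inferInstanceAs (IsAffine (Spec (CommRingCat.of BH)))
  -- the centralizer of the torsion
  let p : ℕ := ringChar k
  have hpK : CharP K p := charP_of_injective_algebraMap (algebraMap k K).injective p
  obtain ⟨Z, _, jZ, hjZm, hjZcl, hZsm, hZpts⟩ := N.n11 k A T i hit p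
  have hjZmono : Mono jZ := by
    have : Mono jZ.left := inferInstance
    exact (Over.forget _).mono_of_mono_map this
  have hZa : IsAffine Z.left := isAffine_of_isAffineHom jZ.left
  obtain ⟨BZ, _, _, ρZ, eZ, heZm, heZ, hρZ, hBZf, hZs⟩ := exists_sub Z jZ
  have hZs' := hZs hjZcl
  have hZpts' : ∀ (R : Type u) [CommRing R] [Algebra k R] (φ : Pt k A R), (∃ ψ : Pt k BZ R, resPt ρZ ψ = φ) ↔
      ∀ (R' : Type u) [CommRing R'] [Algebra k R'] (f : R →ₐ[k] R') (ψ : Pt k B R'), ψ ^ p = 1 →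
        ptMap f φ * resPt ρ ψ = resPt ρ ψ * ptMap f φ := fun R _ _ φ => ptsZ_iff e heρ eZ heZ p hZpts φ
  have hBZsm : Smooth (SpecOver k BZ).hom := by
    have h1 : (SpecOver k BZ).hom = eZ.inv.left ≫ Z.hom := (Over.w eZ.inv).symm
    rw [h1]
    have hiso : IsIso eZ.inv.left := inferInstanceAs (IsIso ((Over.forget _).map eZ.inv))
    infer_instance
  have hcent : cent (LieS k ρ) ≤ LieS k ρZ := cent_le hHP ht hρ hρZ p hZpts'
  obtain ⟨hdH, hHsm⟩ := dimH (ρH := ρH) N.n3 N.n14 hc hρ hρF hρZ hρH W' hW'd hW' hnorm hdim hStab p hZpts' hZs' hcent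
  -- dimensions
  have hdG : topologicalKrullDim (SpecOver k A).left = (Module.finrank k (Der k A k) : WithBot ℕ∞) := by
    rw [← finrank_eDer]
    exact (N.n3 k A).2.1 inferInstance
  have hlt' : Module.finrank k (cent (LieS k ρ)) < n := by
    have h1 : cent (LieS k ρ) < Der k A k := lt_of_le_of_ne (fun D hD => hD.1) hlt
    have h2 := Submodule.finrank_lt_finrank_of_lt h1
    rw [hdG] at hn
    have h3 : Module.finrank k (Der k A k) ≤ n := by exact_mod_cast hn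
    omega
  -- the generic torus lies in the stabilizer
  let _ : Algebra K' BF := ((algebraMap F BF).comp (algebraMap K' F)).toAlgebra
  have hs1 : IsScalarTower K' F BF := IsScalarTower.of_algebraMap_eq' rfl
  have hs2 : IsScalarTower k K' BF := IsScalarTower.of_algebraMap_eq' (by
    rw [IsScalarTower.algebraMap_eq k F BF, IsScalarTower.algebraMap_eq K' F BF, RingHom.comp_assoc,
      ← IsScalarTower.algebraMap_eq k K' F])
  have hcommB : ∀ (R : Type u) [CommRing R] [Algebra k R] (ψ ψ' : Pt k B R), ψ * ψ' = ψ' * ψ :=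
    fun R _ _ ψ ψ' => hHP.comm ht hρ ψ ψ'
  have hcommF : ∀ (R : Type u) [CommRing R] [Algebra k R] [Algebra F R] [IsScalarTower k F R] (ψ ψ' : Pt F BF R),
      ψ * ψ' = ψ' * ψ := fun R _ _ _ _ ψ ψ' => commF hc hρ hρF hcommB ψ ψ'
  obtain ⟨ψF, hψF⟩ : ∃ ψ : Pt K' BH BF, (resPt ρH ψ : Pt k A BF) = toConv ρF := by
    rw [hStab]
    refine stab_of_fix (F := F) W' hW' _ (fix_of_comm (k := k) hρF _ fun ψ => ?_)
    have h1 : ptMap (inl k BF) (toConv ρF : Pt k A BF) =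
        (resPt ρF (toConv (inl F BF) : Pt F BF (DualNumber BF)) : Pt k A (DualNumber BF)) := rfl
    rw [h1]
    have h2 := congrArg (resPt (k := k) ρF) (hcommF (DualNumber BF) (toConv (inl F BF)) ψ)
    have h3 : ∀ a b : Pt F BF (DualNumber BF), (resPt ρF (a * b) : Pt k A (DualNumber BF)) = resPt ρF a * resPt ρF b :=
      fun a b => hρF.mul (R := DualNumber BF) a b
    exact (h3 _ _).symm.trans (h2.trans (h3 _ _))
  obtain ⟨s₀, hs₀⟩ : ∃ s₀ : Spec (CommRingCat.of BF) ⟶ Spec (CommRingCat.of BH),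
      s₀ = Spec.map (CommRingCat.ofHom ψF.ofConv.toRingHom) := ⟨_, rfl⟩
  obtain ⟨εh, hεh⟩ : ∃ ε : pullback Tu.hom x ⟶ Spec (CommRingCat.of BF), ε = eF.hom.left := ⟨_, rfl⟩
  have hs₀1 : s₀ ≫ bs K' BH = bs F BF ≫ bs K' F := by
    rw [hs₀, ← Spec.map_comp, ← CommRingCat.ofHom_comp, ← Spec.map_comp, ← CommRingCat.ofHom_comp,
      ← IsScalarTower.algebraMap_eq K' F BF]
    congr 2
    exact ψF.ofConv.comp_algebraMap
  have hs₀2 : s₀ ≫ Spec.map (CommRingCat.ofHom ρH.toRingHom) = Spec.map (CommRingCat.ofHom ρF.toRingHom) := by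
    rw [hs₀, ← Spec.map_comp, ← CommRingCat.ofHom_comp]
    congr 2
    exact congrArg (fun f : Pt k A BF => f.ofConv.toRingHom) hψF
  have hεh1 : εh ≫ bs F BF = pullback.snd Tu.hom x := by rw [hεh]; exact Over.w eF.hom
  have hεh2 : εh ≫ Spec.map (CommRingCat.ofHom ρF.toRingHom) =
      pullback.fst Tu.hom x ≫ iu.left ≫ pullback.fst (SpecOver k A).hom 𝒯.hom := by
    rw [hεh, ← heF]
    have h4 : eF.hom.left ≫ eF.inv.left = 𝟙 _ := congrArg (fun f => f.left) eF.hom_inv_id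
    refine (Category.assoc _ _ _).symm.trans ?_
    refine (congrArg (fun f => f ≫ pullback.fst Tu.hom x ≫ iu.left ≫ pullback.fst (SpecOver k A).hom 𝒯.hom) h4).trans ?_
    exact Category.id_comp _
  obtain ⟨s, hsd⟩ : ∃ s : (Red.bc x Tu).left ⟶ (SpecOver K' BH).left, s = εh ≫ s₀ := ⟨_, rfl⟩
  have hs : s ≫ (SpecOver K' BH).hom = (Red.bc x Tu).hom ≫ bs K' F := by
    rw [hsd]
    refine (Category.assoc _ _ _).trans ?_
    refine (congrArg (fun f => εh ≫ f) hs₀1).trans ?_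
    rw [← Category.assoc, hεh1]
    rfl
  have hs' : s ≫ jH.left ≫ pullback.fst (SpecOver k A).hom (bs k K') =
      pullback.fst Tu.hom x ≫ iu.left ≫ pullback.fst (SpecOver k A).hom 𝒯.hom := by
    rw [hsd, hjl, ← hεh2]
    refine (Category.assoc _ _ _).trans ?_
    exact congrArg (fun f => εh ≫ f) hs₀2
  have hjmono : Mono jH := by
    have : Mono jH.left := inferInstance
    exact (Over.forget _).mono_of_mono_map this
  -- the scheme of maximal tori of the stabilizer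
  obtain ⟨𝒯', Tu', _, iu', h𝒯'⟩ := N.m2 K' (SpecOver K' BH)
  obtain ⟨x', hx', hx'k⟩ := N.n6 k K' F (SpecOver k A) 𝒯 Tu iu h𝒯 (SpecOver K' BH) jH 𝒯' Tu' iu' h𝒯' x hx hxk s hs hs'
  obtain ⟨d, hd', hd⟩ := N.s4 k K' F (SpecOver k A) 𝒯 Tu iu h𝒯 (SpecOver K' BH) jH 𝒯' Tu' iu' h𝒯' x hxk s hs hs'
    (fun X _ c hX => lift_affine eF heF hρF W' hW' hStab jH hjl X c hX)
    (Module.finrank k (Der k A k)) (Module.finrank k (cent (LieS k ρ))) q hdG hdH hq
  obtain ⟨h10s, h10a, h10i⟩ := N.n10 K' (SpecOver K' BH) 𝒯' Tu' iu' h𝒯'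
  obtain ⟨h𝒯s, h𝒯a, h𝒯i⟩ := N.n10 k (SpecOver k A) 𝒯 Tu iu h𝒯
  obtain ⟨halg, hgen'⟩ := N.n9c k K' F 𝒯 x hx hxk hgen 𝒯' x' hx' hx'k q d v hv hd' hd
  have hinf : Infinite K' := Infinite.of_injective _ (algebraMap k K').injective
  exact N.n9t k K' F ⟨q, v, halg, hv⟩
    (IH _ hlt' K' (SpecOver K' BH) 𝒯' Tu' iu' h𝒯' F x' hx' hx'k hgen' hdH)

end step2

/-- the generic point over its field -/
lemma gR_self {k Ω A : Type u} [Field k] [Field Ω] [Algebra k Ω] [CommRing A] [HopfAlgebra k A] (g : Pt k A Ω) :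
    gR g Ω = g := pt_ext fun _ => rfl

/-- **The induction step.** -/
theorem step (N : Nodes.{u}) {k A F : Type u} [Field k] [Infinite k] [CommRing A] [IsDomain A] [HopfAlgebra k A]
    [Smooth (SpecOver k A).hom] (hTRC : TRC (SpecOver k A)) (n : ℕ)
    (hn : topologicalKrullDim (SpecOver k A).left ≤ (n : WithBot ℕ∞)) (IH : ∀ m < n, IndHyp.{u} m)
    (𝒯 : Over (Spec (CommRingCat.of k))) (Tu : Over 𝒯.left) [GrpObj Tu] (iu : Tu ⟶ Red.bc 𝒯.hom (SpecOver k A))
    (h𝒯 : SGA3x.RepresentsMaxTori (SpecOver k A) 𝒯 Tu iu) [Field F] [Algebra k F]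
    (x : Spec (CommRingCat.of F) ⟶ 𝒯.left) (hx : IsResidue x) (hxk : x ≫ 𝒯.hom = bs k F)
    (hgen : closure {x (IsLocalRing.closedPoint F)} = Set.univ) : PT k F := by
  have hAa : IsAffine (SpecOver k A).left := inferInstanceAs (IsAffine (Spec (CommRingCat.of A)))
  have hAf : Algebra.FiniteType k A := finiteType_of_lft inferInstance
  -- the maximal torus over `k`
  obtain ⟨T, _, i, hi⟩ := N.m1 k (SpecOver k A)
  obtain ⟨him, himono, hit, -⟩ := id hi
  have hTaff : IsAffineHom T.hom := Groth.Agent.Sga3B.TorusAlgClosed.isAffineHom_of_isTorus hit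
  have hTa : IsAffine T.left := isAffine_of_isAffineHom T.hom
  have hTs : Smooth T.hom := Groth.Agent.Sga3B.TorusAlgClosed.smooth_of_isTorus hit
  let K := AlgebraicClosure k
  obtain ⟨r, t, ht, hpts, hinj, hzero, hwt, hr0⟩ := N.s1 k K A T i hi (fun H _ v _ => hTRC _ (bs k K) H v)
  by_cases hr : r = 0
  · have hconn : ConnectedSpace (SpecOver k A).left := inferInstanceAs (ConnectedSpace (PrimeSpectrum A))
    exact N.s3 k (SpecOver k A) 𝒯 Tu iu h𝒯 T i hi (hr0 hr) F x hx hxk hgen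
  obtain ⟨χ, lam, X, hlχ, hX0, hXd, hXw⟩ := hwt hr
  obtain ⟨B, _, _, ρ, e, he, heρ, hρ, hBf, -⟩ := exists_sub T i
  have hHP : HasPts t ρ :=
    ⟨fun R _ _ _ _ φ => (pts_iff e heρ φ).symm.trans (hpts R φ), fun R _ _ _ _ c c' => hinj R c c'⟩
  -- regular elements and nilpotence
  obtain ⟨X₀, hX₀, hreg⟩ := N.p2 k K A r t ht (LieS k ρ) (fun D hD => isDer_LieS hρ hD)
    (fun lam => hHP.dh_mem ht hρ lam) (fun Z hZ => hHP.up_eq ht hρ hZ)
  obtain ⟨m, hm⟩ := N.p1 k K A r t ht hzero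
  -- the generic torus
  obtain ⟨φ₅, h5⟩ := N.n5 k A 𝒯 Tu iu h𝒯 T i hi F x hx hxk hgen
  let _ : Algebra F (FractionRing A) := φ₅.toRingHom.toAlgebra
  have hs1 : IsScalarTower k F (FractionRing A) := IsScalarTower.of_algebraMap_eq' φ₅.comp_algebraMap.symm
  obtain ⟨BF, _, _, _, _, ρF, eF, hρF, hBFf, heF⟩ := exists_subF N.n18 N.n12 h𝒯 x hxk
  have hc : IsConj F (gen k A) ρ ρF := isConj_of_N5 h5 e heρ eF heF
  obtain ⟨q, K', v, W', hv, hq, hW'd, hW'dim, hW'span, hnorm⟩ := N.p3 k A (cent (LieS k ρ)) (fun D hD => hD.1)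
    (fun x hx y hy => cent_lie hx hy) m (fun Y hY => hHP.kill ht hρ m hm Y hY) X₀ (hHP.le_cent ht hρ hX₀)
    (fun D hD h => ⟨hD, hreg D hD h.2⟩) F (cent (LieS F ρF)) (fun D hD => hD.1) (fun D => by
      have h1 := hc.cent_iff (R := FractionRing A) hρ hρF D
      rw [gR_self] at h1
      exact h1)
  exact step2 N n hn IH h𝒯 hx hxk hgen hit e heρ hρ hHP ht eF hρF heF hc
    (hHP.cent_lt ht hρ χ lam X hlχ hX0 hXd hXw) q v hv hq W' hW'd hW'dim hW'span hnorm

end

end K197.Rat
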