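import Groth.Agent.SGA3x.K197.RatNodes3

/-!
# Subgroups over an extension field and their Lie algebras, in the convolution calculus

`ρ : A → B` with `A` a Hopf algebra over `k`, `B` one over `E ⊇ k` (`IsSub ρ`: `Spec B` is a subgroup of the base change
of `Spec A`).
* `rc ρ δ`: the composition `δ ∘ ρ`; `LieS ρ`: the Lie algebra of the subgroup;
* `mem_spanUp_LieS`: the derivations in `spanUp E R (LieS E ρ)` are those for which `1 + ε D` is a point of the subgroup;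
* `cent 𝔱`: the centralizer of `𝔱`; `mem_spanUp_cent`.
-/

set_option autoImplicit false
set_option linter.unusedVariables false
universe u
open Coalgebra WithConv

namespace K197.Rat

noncomputable section

section sub

variable {k E A B : Type u} [Field k] [Field E] [Algebra k E] [CommRing A] [HopfAlgebra k A] [CommRing B]
  [HopfAlgebra E B] [Algebra k B] [IsScalarTower k E B]
variable {R R₂ : Type u} [CommRing R] [Algebra k R] [Algebra E R] [IsScalarTower k E R]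
  [CommRing R₂] [Algebra k R₂] [Algebra E R₂] [IsScalarTower k E R₂]

/-- restriction of linear maps -/
def rc (ρ : A →ₐ[k] B) : Cv E B R →ₗ[R] Cv k A R where
  toFun δ := toConv ((δ.ofConv.restrictScalars k).comp ρ.toLinearMap)
  map_add' _ _ := rfl
  map_smul' _ _ := rfl

variable {ρ : A →ₐ[k] B}

lemma rc_apply (δ : Cv E B R) (a : A) : (rc ρ δ : Cv k A R) a = δ (ρ a) := rfl

lemma rc_lin (ψ : Pt E B R) : rc ρ (lin ψ) = lin (resPt ρ ψ) := rfl

lemma resPt_apply (ψ : Pt E B R) (a : A) : (resPt ρ ψ : Pt k A R) a = ψ (ρ a) := rfl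

lemma resPt_ptMap (f : R →ₐ[E] R₂) (ψ : Pt E B R) :
    (resPt ρ (ptMap f ψ) : Pt k A R₂) = ptMap (f.restrictScalars k) (resPt ρ ψ) := rfl

lemma rc_cvMap (f : R →ₐ[E] R₂) (δ : Cv E B R) :
    (rc ρ (cvMap f δ) : Cv k A R₂) = cvMap (f.restrictScalars k) (rc ρ δ) := rfl

lemma rc_up [Algebra R R₂] [IsScalarTower k R R₂] [IsScalarTower E R R₂] (δ : Cv E B R) :
    (rc ρ (up R R₂ δ) : Cv k A R₂) = up R R₂ (rc ρ δ) := rfl

variable (E) in
/-- `ρ` is the comorphism of a subgroup -/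
def IsSub (ρ : A →ₐ[k] B) : Prop :=
  ∀ (R : Type u) [CommRing R] [Algebra k R] [Algebra E R] [IsScalarTower k E R],
    (∀ ψ ψ' : Pt E B R, resPt ρ (ψ * ψ') = resPt ρ ψ * resPt ρ ψ') ∧
    (Function.Injective (resPt ρ : Pt E B R → Pt k A R))

lemma IsSub.mul (h : IsSub E ρ) (ψ ψ' : Pt E B R) : resPt ρ (ψ * ψ') = resPt ρ ψ * resPt ρ ψ' := (h R).1 ψ ψ'

lemma IsSub.inj (h : IsSub E ρ) {ψ ψ' : Pt E B R} (e : resPt ρ ψ = resPt ρ ψ') : ψ = ψ' := (h R).2 e

lemma IsSub.one (h : IsSub E ρ) : resPt ρ (1 : Pt E B R) = 1 := by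
  have h1 := h.mul (1 : Pt E B R) 1
  rw [_root_.mul_one] at h1
  exact left_eq_mul.1 h1

lemma IsSub.inv (h : IsSub E ρ) (ψ : Pt E B R) : resPt ρ ψ⁻¹ = (resPt ρ ψ)⁻¹ := by
  apply eq_inv_of_mul_eq_one_left
  rw [← h.mul, inv_mul_cancel, h.one]

lemma IsSub.counit (h : IsSub E ρ) (a : A) :
    Coalgebra.counit (R := E) (ρ a) = algebraMap k E (Coalgebra.counit (R := k) a) := by
  have h1 := h.one (R := E)
  exact DFunLike.congr_fun (congrArg WithConv.ofConv h1) a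

lemma IsDer.rc (hρ : IsSub E ρ) {δ : Cv E B R} (h : IsDer δ) : IsDer (rc ρ δ : Cv k A R) := by
  rw [isDer_iff] at h ⊢
  intro a b
  rw [rc_apply, rc_apply, rc_apply, map_mul, h, hρ.counit, hρ.counit,
    ← IsScalarTower.algebraMap_apply k E R, ← IsScalarTower.algebraMap_apply k E R]

lemma resPt_ex (hρ : IsSub E ρ) (i : R →ₐ[E] R₂) (e : R₂) (he : e * e = 0) (δ : Cv E B R) (h : IsDer δ) :
    (resPt ρ (ex i e he δ h) : Pt k A R₂) = ex (i.restrictScalars k) e he (rc ρ δ) (h.rc hρ) := by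
  refine pt_ext fun a => ?_
  change algebraMap E R₂ (Coalgebra.counit (R := E) (ρ a)) + e * i (δ (ρ a)) =
    algebraMap k R₂ (Coalgebra.counit (R := k) a) + e * i (δ (ρ a))
  rw [hρ.counit, ← IsScalarTower.algebraMap_apply k E R₂]

lemma resPt_exd (hρ : IsSub E ρ) (δ : Cv E B R) (h : IsDer δ) :
    (resPt ρ (exd δ h) : Pt k A (DualNumber R)) = exd (rc ρ δ) (h.rc hρ) := by
  refine pt_ext fun a => ?_
  change algebraMap E (DualNumber R) (Coalgebra.counit (R := E) (ρ a)) + DualNumber.eps * inl E R (δ (ρ a)) =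
    algebraMap k (DualNumber R) (Coalgebra.counit (R := k) a) + DualNumber.eps * inl k R (δ (ρ a))
  rw [hρ.counit, ← IsScalarTower.algebraMap_apply k E (DualNumber R)]
  rfl

lemma exd_injective {D D' : Cv k A R} {h : IsDer D} {h' : IsDer D'} (hD : exd D h = exd D' h') : D = D' :=
  ex_injective _ _ _ eps_inj hD

lemma exd_congr {D D' : Cv k A R} {h : IsDer D} {h' : IsDer D'} (hD : D = D') : exd D h = exd D' h' :=
  ex_congr _ _ _ hD

lemma IsSub.rc_inj (hρ : IsSub E ρ) {δ δ' : Cv E B R} (h : IsDer δ) (h' : IsDer δ')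
    (e : (rc ρ δ : Cv k A R) = rc ρ δ') : δ = δ' := by
  have h1 : resPt ρ (exd δ h) = (resPt ρ (exd δ' h') : Pt k A (DualNumber R)) := by
    rw [resPt_exd hρ, resPt_exd hρ]
    exact exd_congr e
  exact exd_injective (hρ.inj h1)

/-- a point of the subgroup over the dual numbers -/
lemma IsSub.exists_der (hρ : IsSub E ρ) (D : Cv k A R) (h : IsDer D) (ψ : Pt E B (DualNumber R))
    (e : resPt ρ ψ = exd D h) : ∃ δ : Cv E B R, IsDer δ ∧ D = rc ρ δ := by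
  have h1 : ptMap (fst E R) ψ = 1 := by
    apply hρ.inj
    rw [hρ.one]
    have h2 : (resPt ρ (ptMap (fst E R) ψ) : Pt k A R) = ptMap (fst k R) (resPt ρ ψ) := rfl
    rw [h2, e]
    exact fst_ex D h
  obtain ⟨δ, hδ, rfl⟩ := exists_ex ψ h1
  rw [resPt_exd hρ] at e
  exact ⟨δ, hδ, (exd_injective e).symm⟩

variable (E) (ρ) in
/-- the Lie algebra of the subgroup -/
def LieS : Submodule E (Cv k A E) := (Der E B E).map (rc ρ)

lemma mem_LieS {D : Cv k A E} : D ∈ LieS E ρ ↔ ∃ δ : Cv E B E, IsDer δ ∧ rc ρ δ = D := Iff.rfl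

lemma isDer_LieS (hρ : IsSub E ρ) {D : Cv k A E} (h : D ∈ LieS E ρ) : IsDer D := by
  obtain ⟨δ, hδ, rfl⟩ := mem_LieS.1 h
  exact hδ.rc hρ

lemma mem_LieS_iff (hρ : IsSub E ρ) (D : Cv k A E) (h : IsDer D) :
    D ∈ LieS E ρ ↔ ∃ ψ : Pt E B (DualNumber E), resPt ρ ψ = exd D h := by
  constructor
  · rintro ⟨δ, hδ, rfl⟩
    exact ⟨exd δ hδ, resPt_exd hρ δ hδ⟩
  · rintro ⟨ψ, hψ⟩
    obtain ⟨δ, hδ, e⟩ := hρ.exists_der D h ψ hψ
    exact ⟨δ, hδ, e.symm⟩

lemma mem_spanUp {W : Submodule E (Cv k A E)} {D : Cv k A E} (h : D ∈ W) : up E R D ∈ spanUp E R W :=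
  Submodule.subset_span ⟨D, h, rfl⟩

lemma isDer_spanUp {W : Submodule E (Cv k A E)} (hW : ∀ D ∈ W, IsDer D) {D : Cv k A R} (h : D ∈ spanUp E R W) :
    IsDer D := by
  have h1 : spanUp E R W ≤ Der k A R := by
    rw [spanUp, Submodule.span_le]
    rintro _ ⟨D, hD, rfl⟩
    exact (hW D hD).up
  exact h1 h

/-- **Points of a subgroup over the dual numbers.** -/
theorem mem_spanUp_LieS [Algebra.FiniteType E B] (hρ : IsSub E ρ) (D : Cv k A R) (h : IsDer D) :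
    D ∈ spanUp E R (LieS E ρ) ↔ ∃ ψ : Pt E B (DualNumber R), resPt ρ ψ = exd D h := by
  constructor
  · intro hD
    have h1 : spanUp E R (LieS E ρ) ≤ (Der E B R).map (rc ρ) := by
      rw [spanUp, Submodule.span_le]
      rintro _ ⟨_, ⟨δ, hδ, rfl⟩, rfl⟩
      exact ⟨up E R δ, IsDer.up hδ, rfl⟩
    obtain ⟨δ, hδ, rfl⟩ := h1 hD
    exact ⟨exd δ hδ, resPt_exd hρ δ hδ⟩
  · rintro ⟨ψ, hψ⟩
    obtain ⟨δ, hδ, rfl⟩ := hρ.exists_der D h ψ hψ
    obtain ⟨m, r, c, e⟩ := exists_decomp (F := E) hδ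
    rw [e, map_sum]
    refine Submodule.sum_mem _ fun j _ => ?_
    rw [map_smul]
    refine Submodule.smul_mem _ _ ?_
    have h2 : (rc ρ (up E R (clin (c j) δ)) : Cv k A R) = up E R (rc ρ (clin (c j) δ)) := rfl
    rw [h2]
    exact mem_spanUp ⟨clin (c j) δ, hδ.clin _, rfl⟩

end sub

section cent

variable {k E A : Type u} [Field k] [Field E] [Algebra k E] [CommRing A] [HopfAlgebra k A]
variable {R : Type u} [CommRing R] [Algebra k R] [Algebra E R] [IsScalarTower k E R]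

/-- the centralizer -/
def cent (𝔱 : Submodule E (Cv k A E)) : Submodule E (Cv k A E) where
  carrier := {D | IsDer D ∧ ∀ Z ∈ 𝔱, ⁅Z, D⁆ = 0}
  add_mem' h h' := ⟨h.1.add h'.1, fun Z hZ => by rw [lie_add, h.2 Z hZ, h'.2 Z hZ, add_zero]⟩
  zero_mem' := ⟨isDer_zero, fun Z _ => lie_zero _⟩
  smul_mem' r D h := ⟨h.1.smul r, fun Z hZ => by
    rw [lie_eq, mul_smul_comm, smul_mul_assoc, ← smul_sub, ← lie_eq, h.2 Z hZ, smul_zero]⟩

lemma mem_cent {𝔱 : Submodule E (Cv k A E)} {D : Cv k A E} : D ∈ cent 𝔱 ↔ IsDer D ∧ ∀ Z ∈ 𝔱, ⁅Z, D⁆ = 0 := Iff.rfl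

lemma smul_lie' (r : R) (D D' : Cv k A R) : ⁅r • D, D'⁆ = r • ⁅D, D'⁆ := by
  rw [lie_eq, lie_eq, mul_smul_comm, smul_mul_assoc, ← smul_sub]

lemma lie_smul' (r : R) (D D' : Cv k A R) : ⁅D, r • D'⁆ = r • ⁅D, D'⁆ := by
  rw [lie_eq, lie_eq, mul_smul_comm, smul_mul_assoc, ← smul_sub]

/-- commutation extends to the span -/
lemma lie_of_mem_spanUp {𝔱 : Submodule E (Cv k A E)} {D : Cv k A R} (h : ∀ Z ∈ 𝔱, ⁅up E R Z, D⁆ = 0)
    {Z : Cv k A R} (hZ : Z ∈ spanUp E R 𝔱) : ⁅Z, D⁆ = 0 := by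
  induction hZ using Submodule.span_induction with
  | mem x hx =>
    obtain ⟨Z, hZ, rfl⟩ := hx
    exact h Z hZ
  | zero => rw [zero_lie]
  | add x y _ _ hx hy => rw [add_lie, hx, hy, add_zero]
  | smul r x _ hx => rw [smul_lie', hx, smul_zero]

/-- **The centralizer commutes with base change.** -/
theorem mem_spanUp_cent [Algebra.FiniteType k A] {𝔱 : Submodule E (Cv k A E)} {D : Cv k A R} :
    D ∈ spanUp E R (cent 𝔱) ↔ IsDer D ∧ ∀ Z ∈ 𝔱, ⁅up E R Z, D⁆ = 0 := by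
  constructor
  · intro h
    refine ⟨isDer_spanUp (fun D hD => (mem_cent.1 hD).1) h, fun Z hZ => ?_⟩
    induction h using Submodule.span_induction with
    | mem x hx =>
      obtain ⟨D, hD, rfl⟩ := hx
      rw [← up_lie, hD.2 Z hZ, up_zero]
    | zero => rw [lie_zero]
    | add x y _ _ hx hy => rw [lie_add, hx, hy, add_zero]
    | smul r x _ hx => rw [lie_smul', hx, smul_zero]
  · rintro ⟨h, hc⟩
    obtain ⟨m, r, c, e⟩ := exists_decomp (F := E) h
    rw [e]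
    refine Submodule.sum_mem _ fun j _ => Submodule.smul_mem _ _ (mem_spanUp ⟨h.clin _, fun Z hZ => ?_⟩)
    have h1 := clin_up_lie (c j) D Z
    rw [hc Z hZ, map_zero] at h1
    rw [up_self] at h1
    exact h1.symm

lemma cent_lie {𝔱 : Submodule E (Cv k A E)} {x y : Cv k A E} (hx : x ∈ cent 𝔱) (hy : y ∈ cent 𝔱) :
    ⁅x, y⁆ ∈ cent 𝔱 := by
  refine ⟨hx.1.comm hy.1, fun Z hZ => ?_⟩
  rw [leibniz_lie, hx.2 Z hZ, hy.2 Z hZ, lie_zero, zero_lie, add_zero]

end cent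

end

end K197.Rat
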