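import Groth.Agent.SGA3x.K197.RatSub
import Mathlib.RingTheory.TensorProduct.Basic
import Mathlib.LinearAlgebra.TensorProduct.Basis
import Mathlib.Algebra.CharP.Basic

/-!
# Tori in the convolution calculus: tangent vectors, centralizers and torsion points

`t : Pt k A (GA K N)` a homomorphism; `ρ : A → B` the comorphism of a subgroup over `k` whose points over `K`-algebras
are the `T t c`.
-/

set_option autoImplicit false
set_option linter.unusedVariables false
universe u
open Coalgebra WithConv TensorProduct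

namespace K197.Rat

noncomputable section

section wt

variable {k K A : Type u} [Field k] [Field K] [Algebra k K] [CommRing A] [HopfAlgebra k A]
  {N : Type} [AddCommGroup N] {t : Pt k A (GA K N)}
variable {R : Type u} [CommRing R] [Algebra k R] [Algebra K R] [IsScalarTower k K R]

lemma cvMap_tev_up (c : Multiplicative N →* R) (X : Cv k A K) :
    cvMap (tev (k := k) K c) (up K (GA K N) X) = up K R X := by
  refine cv_ext fun a => ?_
  exact (MonoidAlgebra.lift K R (Multiplicative N) c).commutes (X a)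

lemma Ad_T (c : Multiplicative N →* R) {χ : N} {X : Cv k A K} (h : IsWt t χ X) :
    Ad (T t c) (up K R X) = c (Multiplicative.ofAdd χ) • up K R X := by
  have h1 := congrArg (cvMap (tev (k := k) K c)) h
  rw [cvMap_Ad, cvMap_smul, cvMap_tev_up] at h1
  have h2 : tev (k := k) K c (gl K χ) = c (Multiplicative.ofAdd χ) := by
    rw [tev_single, map_one, _root_.one_mul]
  rw [h2] at h1
  exact h1

/-- `K[ε] → R[ε]` -/
def mapE (K R : Type u) [Field K] [CommRing R] [Algebra K R] : DualNumber K →ₐ[K] DualNumber R :=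
  DualNumber.lift ⟨(Algebra.ofId K (DualNumber R), DualNumber.eps), eps_mul_eps R, fun _ => Commute.all _ _⟩

lemma mapE_eps (K R : Type u) [Field K] [CommRing R] [Algebra K R] : mapE K R DualNumber.eps = DualNumber.eps := by
  rw [mapE, DualNumber.lift_apply_eps]

lemma mapE_inl (K R : Type u) [Field K] [CommRing R] [Algebra K R] (x : K) :
    mapE K R (TrivSqZeroExt.inl x) = TrivSqZeroExt.inl (algebraMap K R x) := by
  have h1 : (TrivSqZeroExt.inl x : DualNumber K) = algebraMap K (DualNumber K) x := by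
    rw [TrivSqZeroExt.algebraMap_eq_inl']
    rfl
  rw [h1, (mapE K R).commutes, TrivSqZeroExt.algebraMap_eq_inl']

/-- change of coefficients of `1 + ε D` -/
lemma ptMap_mapE (D : Cv k A K) (h : IsDer D) :
    ptMap ((mapE K R).restrictScalars k) (exd D h) = exd (up K R D) (h.up) := by
  refine pt_ext fun a => ?_
  change mapE K R (algebraMap k (DualNumber K) (counit (R := k) a) + DualNumber.eps * TrivSqZeroExt.inl (D a)) =
    algebraMap k (DualNumber R) (counit (R := k) a) + DualNumber.eps * TrivSqZeroExt.inl (algebraMap K R (D a))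
  rw [map_add, map_mul, mapE_eps, mapE_inl]
  congr 1
  exact ((mapE K R).restrictScalars k).commutes _

lemma commute_T (ht : IsHomT t) (c c' : Multiplicative N →* R) : T t c * T t c' = T t c' * T t c := by
  rw [ht, ht, _root_.mul_comm]

lemma isWt_dh (ht : IsHomT t) (lam : N →+ K) : IsWt t 0 (dh t lam) := by
  obtain ⟨hd, he⟩ := isDer_dh ht lam
  have h1 : exd (up K (GA K N) (dh t lam)) hd.up =
      T t (((mapE K (GA K N) : DualNumber K →ₐ[K] DualNumber (GA K N)) : DualNumber K →* DualNumber (GA K N)).comp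
        (cl lam)) := by
    rw [← ptMap_mapE _ hd, ← he hd, ptMap_T]
  have h2 : ptMap (inl k (GA K N)) t = T t (((TrivSqZeroExt.inlAlgHom K (GA K N) (GA K N) :
      GA K N →ₐ[K] DualNumber (GA K N)) : GA K N →* DualNumber (GA K N)).comp (cu K N)) := by
    rw [← ptMap_T, T_cu]
    rfl
  have h3 : ptMap (inl k (GA K N)) t * exd (up K (GA K N) (dh t lam)) hd.up =
      exd (up K (GA K N) (dh t lam)) hd.up * ptMap (inl k (GA K N)) t := by
    rw [h1, h2]
    exact commute_T ht _ _
  have h4 : Ad t (up K (GA K N) (dh t lam)) = up K (GA K N) (dh t lam) :=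
    (commute_ex_iff _ _ _ eps_inj t _ hd.up).1 h3
  rw [IsWt, h4]
  have h5 : gl K (0 : N) = 1 := rfl
  rw [h5, one_smul]

lemma dh_comm (ht : IsHomT t) (lam mu : N →+ K) : ⁅dh t lam, dh t mu⁆ = 0 := by
  rw [dh_lie ht lam (isWt_dh ht mu), map_zero, zero_smul]

lemma comp_sum' {ι : Type} (s : Finset ι) (X : ι → Cv k A K) (χ : N) :
    comp t χ (∑ i ∈ s, X i) = ∑ i ∈ s, comp t χ (X i) := by
  classical
  induction s using Finset.induction_on with
  | empty =>
    rw [Finset.sum_empty, Finset.sum_empty, comp, up_zero, Ad_zero, map_zero]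
  | insert i s hi ih =>
    rw [Finset.sum_insert hi, Finset.sum_insert hi, comp_add, ih]

/-- the components of the elements of the centralizer -/
lemma comp_eq_zero (ht : IsHomT t) [Algebra.FiniteType k A] {D : Cv k A K} (h : D ∈ hK t) (χ : N)
    (lam : N →+ K) (hl : lam χ ≠ 0) : comp t χ D = 0 := by
  classical
  obtain ⟨S, hS, e⟩ := exists_sum ht h.1
  by_cases hχ : χ ∈ S
  swap
  · exact hS χ hχ
  have h1 : ⁅dh t lam, D⁆ = ∑ ψ ∈ S, lam ψ • comp t ψ D := by
    conv_lhs => rw [e]
    rw [lie_sum]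
    exact Finset.sum_congr rfl fun ψ _ => dh_lie ht lam (isWt_comp ht ψ D)
  rw [h.2 lam] at h1
  have h2 := congrArg (comp t χ) h1
  rw [comp_sum'] at h2
  have h3 : ∀ ψ ∈ S, comp t χ (lam ψ • comp t ψ D) = if ψ = χ then lam χ • comp t χ D else 0 := by
    intro ψ _
    rw [comp_smul, (isWt_comp ht ψ D).comp_eq χ]
    split_ifs with h4
    · subst h4; rfl
    · rw [smul_zero]
  rw [Finset.sum_congr rfl h3, Finset.sum_ite_eq' S χ, if_pos hχ] at h2
  have h4 : comp t χ (0 : Cv k A K) = 0 := by rw [comp, up_zero, Ad_zero, map_zero]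
  rw [h4] at h2
  rcases smul_eq_zero.1 h2.symm with h5 | h5
  · exact absurd h5 hl
  · exact h5

end wt

section wtr

variable {k K A : Type u} [Field k] [Field K] [Algebra k K] [CommRing A] [HopfAlgebra k A]
  {r : ℕ} {t : Pt k A (GA K (Fin r → ℤ))}
variable {R : Type u} [CommRing R] [Algebra k R] [Algebra K R] [IsScalarTower k K R]

/-- the coordinate form -/
def crd (K : Type u) [Field K] {r : ℕ} (i : Fin r) : (Fin r → ℤ) →+ K :=
  (Int.castAddHom K).comp (Pi.evalAddMonoidHom (fun _ => ℤ) i)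

lemma crd_apply (i : Fin r) (χ : Fin r → ℤ) : crd K i χ = (χ i : K) := rfl

/-- The `p`-torsion points of the torus act trivially on the centralizer of its Lie algebra. -/
theorem Ad_T_torsion (ht : IsHomT t) [Algebra.FiniteType k A] {D : Cv k A K} (h : D ∈ hK t) (p : ℕ) [CharP K p]
    (c : Multiplicative (Fin r → ℤ) →* R) (hc : c ^ p = 1) : Ad (T t c) (up K R D) = up K R D := by
  classical
  obtain ⟨S, hS, e⟩ := exists_sum ht h.1
  have h1 : ∀ χ ∈ S, Ad (T t c) (up K R (comp t χ D)) = up K R (comp t χ D) := by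
    intro χ _
    by_cases hl : ∀ i, (χ i : K) = 0
    · have h2 : ∀ i, (p : ℤ) ∣ χ i := fun i => (CharP.intCast_eq_zero_iff K p _).1 (hl i)
      choose ψ hψ using h2
      have h3 : Multiplicative.ofAdd χ = (Multiplicative.ofAdd ψ) ^ p := by
        rw [← ofAdd_nsmul]
        congr 1
        funext i
        rw [Pi.smul_apply, hψ i, nsmul_eq_mul]
      rw [Ad_T c (isWt_comp ht χ D), h3, map_pow]
      have h4 : c (Multiplicative.ofAdd ψ) ^ p = 1 := by
        have := DFunLike.congr_fun hc (Multiplicative.ofAdd ψ)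
        exact this
      rw [h4, one_smul]
    · push Not at hl
      obtain ⟨i, hi⟩ := hl
      rw [comp_eq_zero ht h χ (crd K i) hi, up_zero, Ad_zero]
  have h2 : Ad (T t c) (∑ χ ∈ S, up K R (comp t χ D)) = ∑ χ ∈ S, up K R (comp t χ D) := by
    have h3 : ∀ s : Finset (Fin r → ℤ), s ⊆ S →
        Ad (T t c) (∑ χ ∈ s, up K R (comp t χ D)) = ∑ χ ∈ s, up K R (comp t χ D) := by
      intro s
      induction s using Finset.induction_on with
      | empty => intro _; rw [Finset.sum_empty, Ad_zero]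
      | insert i s hi ih =>
        intro hs
        rw [Finset.sum_insert hi, Ad_add, h1 i (hs (Finset.mem_insert_self i s)),
          ih fun x hx => hs (Finset.mem_insert_of_mem hx)]
    exact h3 S subset_rfl
  rw [← up_sum, ← e] at h2
  exact h2

end wtr

section tor

variable {k K A B : Type u} [Field k] [Field K] [Algebra k K] [CommRing A] [HopfAlgebra k A] [CommRing B]
  [HopfAlgebra k B] {ρ : A →ₐ[k] B} {r : ℕ} {t : Pt k A (GA K (Fin r → ℤ))}

/-- the points of the subgroup `ρ` over `K`-algebras are the `T t c` -/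
def HasPts (t : Pt k A (GA K (Fin r → ℤ))) (ρ : A →ₐ[k] B) : Prop :=
  (∀ (R : Type u) [CommRing R] [Algebra k R] [Algebra K R] [IsScalarTower k K R] (φ : Pt k A R),
    (∃ ψ : Pt k B R, resPt ρ ψ = φ) ↔ ∃ c : Multiplicative (Fin r → ℤ) →* R, φ = Rat.T t c) ∧
  (∀ (R : Type u) [CommRing R] [Algebra k R] [Algebra K R] [IsScalarTower k K R]
    (c c' : Multiplicative (Fin r → ℤ) →* R), Rat.T t c = Rat.T t c' → c = c')

lemma ptMap_injective {k A R R' : Type u} [Field k] [CommRing A] [HopfAlgebra k A] [CommRing R] [Algebra k R]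
    [CommRing R'] [Algebra k R'] (f : R →ₐ[k] R') (hf : Function.Injective f) :
    Function.Injective (ptMap f : Pt k A R → Pt k A R') := by
  intro x y h
  refine pt_ext fun a => hf ?_
  exact DFunLike.congr_fun (congrArg WithConv.ofConv h) a

lemma cvMap_injective {k A R R' : Type u} [Field k] [CommRing A] [HopfAlgebra k A] [CommRing R] [Algebra k R]
    [CommRing R'] [Algebra k R'] (f : R →ₐ[k] R') (hf : Function.Injective f) :
    Function.Injective (cvMap f : Cv k A R → Cv k A R') := by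
  intro x y h
  refine cv_ext fun a => hf ?_
  exact DFunLike.congr_fun (congrArg WithConv.ofConv h) a

/-- `R → K ⊗ R` -/
def inR (k K R : Type u) [Field k] [Field K] [Algebra k K] [CommRing R] [Algebra k R] : R →ₐ[k] K ⊗[k] R :=
  Algebra.TensorProduct.includeRight

lemma inR_injective (k K R : Type u) [Field k] [Field K] [Algebra k K] [CommRing R] [Algebra k R] :
    Function.Injective (inR k K R) :=
  Algebra.TensorProduct.includeRight_injective (algebraMap k K).injective

/-- the subgroup is commutative -/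
theorem HasPts.comm (h : HasPts t ρ) (ht : IsHomT t) (hρ : IsSub k ρ) {R : Type u} [CommRing R] [Algebra k R]
    (ψ ψ' : Pt k B R) : ψ * ψ' = ψ' * ψ := by
  apply ptMap_injective (inR k K R) (inR_injective k K R)
  apply hρ.inj
  rw [map_mul, map_mul, hρ.mul, hρ.mul]
  obtain ⟨c, hc⟩ := (h.1 _ _).1 ⟨ptMap (inR k K R) ψ, rfl⟩
  obtain ⟨c', hc'⟩ := (h.1 _ _).1 ⟨ptMap (inR k K R) ψ', rfl⟩
  rw [hc, hc']
  exact commute_T ht c c'

/-- the tangent vectors of the torus -/
theorem HasPts.up_eq (h : HasPts t ρ) (ht : IsHomT t) (hρ : IsSub k ρ) {Z : Cv k A k} (hZ : Z ∈ LieS k ρ) :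
    ∃ lam : (Fin r → ℤ) →+ K, up k K Z = dh t lam := by
  have hd := isDer_LieS hρ hZ
  obtain ⟨δ, hδ, e⟩ := mem_LieS.1 hZ
  have h1 : resPt ρ (exd (up k K δ) hδ.up : Pt k B (DualNumber K)) = exd (up k K Z) hd.up := by
    rw [resPt_exd hρ]
    exact exd_congr (by rw [← e]; rfl)
  obtain ⟨c, hc⟩ := (h.1 (DualNumber K) (exd (up k K Z) hd.up)).1 ⟨_, h1⟩
  -- the reduction of `c` is trivial
  have h2 : ((TrivSqZeroExt.fstHom K K K : DualNumber K →ₐ[K] K) : DualNumber K →* K).comp c = 1 := by
    apply h.2 K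
    rw [← ptMap_T, ← hc, ht.one]
    exact fst_ex _ _
  let lam : (Fin r → ℤ) →+ K :=
    { toFun := fun n => (c (Multiplicative.ofAdd n)).snd
      map_zero' := by
        rw [ofAdd_zero, map_one]
        rfl
      map_add' := fun a b => by
        have h3 : ∀ m, (c m).fst = 1 := fun m => DFunLike.congr_fun h2 m
        rw [ofAdd_add, map_mul, TrivSqZeroExt.snd_mul, h3, h3]
        simp [add_comm] }
  have h4 : c = cl lam := by
    refine MonoidHom.ext fun m => ?_
    have h3 : (c m).fst = 1 := DFunLike.congr_fun h2 m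
    rw [cl_apply]
    apply TrivSqZeroExt.ext
    · rw [h3]; simp
    · simp [lam]
  obtain ⟨hdl, hel⟩ := isDer_dh ht lam
  refine ⟨lam, ?_⟩
  apply exd_injective (h := hd.up) (h' := hdl)
  rw [hc, h4, hel hdl]

theorem HasPts.dh_mem (h : HasPts t ρ) (ht : IsHomT t) (hρ : IsSub k ρ) [Algebra.FiniteType k B]
    (lam : (Fin r → ℤ) →+ K) : dh t lam ∈ spanUp k K (LieS k ρ) := by
  obtain ⟨hdl, hel⟩ := isDer_dh ht lam
  rw [mem_spanUp_LieS hρ _ hdl, ← hel hdl]
  exact (h.1 _ _).2 ⟨cl lam, rfl⟩

/-- the centralizer of the Lie algebra of the torus, over `k` and over `K` -/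
theorem HasPts.mem_cent_iff (h : HasPts t ρ) (ht : IsHomT t) (hρ : IsSub k ρ) [Algebra.FiniteType k B]
    (D : Cv k A k) : D ∈ cent (LieS k ρ) ↔ up k K D ∈ hK t := by
  constructor
  · rintro ⟨h1, h2⟩
    refine ⟨h1.up, fun lam => ?_⟩
    refine lie_of_mem_spanUp (fun Z hZ => ?_) (h.dh_mem ht hρ lam)
    rw [← up_lie, h2 Z hZ, up_zero]
  · rintro ⟨h1, h2⟩
    have hi := up_injective (k := k) (A := A) (algebraMap k K).injective
    refine ⟨?_, fun Z hZ => ?_⟩
    · rw [isDer_iff] at h1 ⊢
      intro a b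
      apply (algebraMap k K).injective
      have h3 := h1 a b
      rw [up_apply, up_apply, up_apply] at h3
      rw [h3]
      simp only [map_add, map_mul]
      rfl
    · apply hi
      rw [up_lie, up_zero]
      obtain ⟨lam, hl⟩ := h.up_eq ht hρ hZ
      rw [hl]
      exact h2 lam

theorem HasPts.le_cent (h : HasPts t ρ) (ht : IsHomT t) (hρ : IsSub k ρ) [Algebra.FiniteType k B] {Z : Cv k A k}
    (hZ : Z ∈ LieS k ρ) : Z ∈ cent (LieS k ρ) := by
  rw [h.mem_cent_iff ht hρ]
  obtain ⟨lam, hl⟩ := h.up_eq ht hρ hZ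
  rw [hl]
  exact ⟨(isDer_dh ht lam).1, fun mu => dh_comm ht mu lam⟩

/-- nilpotence of the centralizer -/
theorem HasPts.kill (h : HasPts t ρ) (ht : IsHomT t) (hρ : IsSub k ρ) [Algebra.FiniteType k B]
    (m : ℕ) (hm : ∀ Y ∈ hK t, Kill (hK t : Set (Cv k A K)) m Y) (Y : Cv k A k) (hY : Y ∈ cent (LieS k ρ)) :
    Kill (cent (LieS k ρ) : Set (Cv k A k)) m Y := by
  have h1 : ∀ (m : ℕ) (Y : Cv k A k), Kill (hK t : Set (Cv k A K)) m (up k K Y) →
      Kill (cent (LieS k ρ) : Set (Cv k A k)) m Y := by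
    intro m
    induction m with
    | zero =>
      intro Y h2
      apply up_injective (k := k) (A := A) (algebraMap k K).injective
      rw [up_zero]
      exact h2
    | succ m ih =>
      intro Y h2 x hx
      apply ih
      rw [up_lie]
      exact h2 _ ((h.mem_cent_iff ht hρ x).1 hx)
  exact h1 m Y (hm _ ((h.mem_cent_iff ht hρ Y).1 hY))

/-- **The `p`-torsion points of the torus act trivially on the centralizer of its Lie algebra.** -/
theorem HasPts.Ad_torsion (h : HasPts t ρ) (ht : IsHomT t) (hρ : IsSub k ρ) [Algebra.FiniteType k B]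
    [Algebra.FiniteType k A] (p : ℕ) [CharP K p] {D : Cv k A k} (hD : D ∈ cent (LieS k ρ))
    {R : Type u} [CommRing R] [Algebra k R] (ψ : Pt k B R) (hψ : ψ ^ p = 1) :
    Ad (resPt ρ ψ : Pt k A R) (up k R D) = up k R D := by
  apply cvMap_injective (inR k K R) (inR_injective k K R)
  rw [cvMap_Ad]
  have h1 : cvMap (inR k K R) (up k R D) = up K (K ⊗[k] R) (up k K D) := by
    rw [up_up]
    refine cv_ext fun a => ?_
    exact (inR k K R).commutes (D a)
  rw [h1]
  obtain ⟨c, hc⟩ := (h.1 _ _).1 ⟨ptMap (inR k K R) ψ, rfl⟩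
  have h2 : ptMap (inR k K R) (resPt ρ ψ : Pt k A R) = T t c := hc
  rw [h2]
  apply Ad_T_torsion ht ((h.mem_cent_iff ht hρ D).1 hD) p
  apply h.2
  rw [ht.one]
  have h3 : T t (c ^ p) = (T t c) ^ p := by
    clear hc h2
    generalize p = n
    induction n with
    | zero => rw [pow_zero, pow_zero, ht.one]
    | succ n ih => rw [pow_succ, pow_succ, ← ht, ih]
  rw [h3, ← hc]
  have h4 : ∀ n : ℕ, (resPt ρ (ptMap (inR k K R) ψ) : Pt k A (K ⊗[k] R)) ^ n =
      resPt ρ ((ptMap (inR k K R) ψ) ^ n) := by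
    intro n
    induction n with
    | zero => rw [pow_zero, pow_zero, hρ.one]
    | succ n ih => rw [pow_succ, pow_succ, hρ.mul, ih]
  rw [h4, ← map_pow, hψ, map_one, hρ.one]

/-- the centralizer is a proper subspace -/
theorem HasPts.cent_lt (h : HasPts t ρ) (ht : IsHomT t) (hρ : IsSub k ρ) [Algebra.FiniteType k B]
    [Algebra.FiniteType k A] (χ : Fin r → ℤ) (lam : (Fin r → ℤ) →+ K) (X : Cv k A K) (hl : lam χ ≠ 0) (hX : X ≠ 0)
    (hXd : IsDer X) (hw : IsWt t χ X) : cent (LieS k ρ) ≠ Der k A k := by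
  intro he
  have h1 : X ∈ spanUp k K (cent (LieS k ρ)) := by
    rw [he]
    obtain ⟨m, r, c, e⟩ := exists_decomp (F := k) hXd
    rw [e]
    exact Submodule.sum_mem _ fun j _ => Submodule.smul_mem _ _ (mem_spanUp (hXd.clin _))
  have h2 := (mem_spanUp_cent.1 h1).2
  have h3 := lie_of_mem_spanUp h2 (h.dh_mem ht hρ lam)
  rw [dh_lie ht lam hw] at h3
  rcases smul_eq_zero.1 h3 with h4 | h4
  · exact hl h4
  · exact hX h4

end tor

end

end K197.Rat
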