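import Groth.Agent.SGA3x.K197.RatCoord
import Mathlib.Algebra.MonoidAlgebra.Basic

/-!
# Weights of a diagonalizable subgroup on the convolution algebra

`t : Pt k A (GA K N)` a homomorphism `D(N) → Spec A` over `K ⊇ k` (`IsHomT t`).
* `T t c`: the point given by a character `c`;
* `IsWt t χ X`: `X` has weight `χ`, i.e. `t * X * t⁻¹ = e^χ X`;
* `comp t χ X`: the component of weight `χ`; `exists_sum`: `X` is the sum of its components;
* `dH`: tangent vectors; `dH_lie`: `⁅dH λ, X⁆ = λ(χ) X`.
-/

set_option autoImplicit false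
universe u
open Coalgebra WithConv

namespace K197.Rat

noncomputable section

/-- the group algebra -/
abbrev GA (K : Type u) [CommRing K] (N : Type) [AddCommGroup N] : Type u := MonoidAlgebra K (Multiplicative N)

/-- the basis element of the group algebra -/
abbrev gl (K : Type u) [CommRing K] {N : Type} [AddCommGroup N] (n : N) : GA K N :=
  MonoidAlgebra.single (Multiplicative.ofAdd n) 1

/-- the coefficient -/
def cf (K : Type u) [CommRing K] {N : Type} [AddCommGroup N] (n : N) : GA K N →ₗ[K] K :=
  (Finsupp.lapply (Multiplicative.ofAdd n)).comp (MonoidAlgebra.coeffLinearEquiv K).toLinearMap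

lemma cf_apply {K : Type u} [CommRing K] {N : Type} [AddCommGroup N] (n : N) (x : GA K N) :
    cf K n x = x.coeff (Multiplicative.ofAdd n) := rfl

lemma cf_single {K : Type u} [CommRing K] {N : Type} [AddCommGroup N] [DecidableEq N] (n m : N) (r : K) :
    cf K n (MonoidAlgebra.single (Multiplicative.ofAdd m) r) = if m = n then r else 0 := by
  rw [cf_apply, MonoidAlgebra.coeff_single, Finsupp.single_apply]
  simp only [EmbeddingLike.apply_eq_iff_eq]

section hom

variable {k K A : Type u} [Field k] [Field K] [Algebra k K] [CommRing A] [HopfAlgebra k A]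
  {N : Type} [AddCommGroup N]

/-- evaluation of the group algebra at a character -/
def tev (K : Type u) [Field K] [Algebra k K] {R : Type u} [CommRing R] [Algebra k R] [Algebra K R]
    [IsScalarTower k K R] (c : Multiplicative N →* R) : GA K N →ₐ[k] R :=
  (MonoidAlgebra.lift K R (Multiplicative N) c).restrictScalars k

lemma tev_single {R : Type u} [CommRing R] [Algebra k R] [Algebra K R] [IsScalarTower k K R]
    (c : Multiplicative N →* R) (n : Multiplicative N) (r : K) :
    tev (k := k) K c (MonoidAlgebra.single n r) = algebraMap K R r * c n := by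
  change MonoidAlgebra.lift K R (Multiplicative N) c (MonoidAlgebra.single n r) = _
  rw [MonoidAlgebra.lift_single, Algebra.smul_def]

variable (t : Pt k A (GA K N))

/-- the point of `D(N)` given by a character -/
def T {R : Type u} [CommRing R] [Algebra k R] [Algebra K R] [IsScalarTower k K R]
    (c : Multiplicative N →* R) : Pt k A R := ptMap (tev (k := k) K c) t

/-- `t` is a homomorphism `D(N) → Spec A` -/
def IsHomT : Prop := ∀ (R : Type u) [CommRing R] [Algebra k R] [Algebra K R] [IsScalarTower k K R]
  (c c' : Multiplicative N →* R), T t c * T t c' = T t (c * c')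

/-- the universal character -/
def cu (K : Type u) [Field K] (N : Type) [AddCommGroup N] : Multiplicative N →* GA K N :=
  MonoidAlgebra.of K (Multiplicative N)

lemma cu_apply (n : Multiplicative N) : cu K N n = MonoidAlgebra.single n 1 := rfl

lemma tev_cu : tev (k := k) K (cu K N) = AlgHom.id k (GA K N) := by
  apply AlgHom.ext
  intro x
  induction x using MonoidAlgebra.induction_linear with
  | zero => rw [map_zero, map_zero]
  | add x y hx hy => rw [map_add, hx, hy, map_add]
  | single m r =>
    rw [tev_single, cu_apply]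
    change algebraMap K (GA K N) r * _ = MonoidAlgebra.single m r
    rw [← Algebra.smul_def, MonoidAlgebra.smul_single, smul_eq_mul, _root_.mul_one]

lemma T_cu : T t (cu K N) = t := by
  rw [T, tev_cu]
  rfl

variable {t}

lemma ptMap_T {R R' : Type u} [CommRing R] [Algebra k R] [Algebra K R] [IsScalarTower k K R]
    [CommRing R'] [Algebra k R'] [Algebra K R'] [IsScalarTower k K R'] (f : R →ₐ[K] R')
    (c : Multiplicative N →* R) : ptMap (f.restrictScalars k) (T t c) = T t ((f : R →* R').comp c) := by
  rw [T, T, ptMap_comp]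
  congr 1
  congr 1
  apply AlgHom.ext
  intro x
  induction x using MonoidAlgebra.induction_linear with
  | zero => rw [map_zero, map_zero]
  | add x y hx hy => rw [map_add, hx, hy, map_add]
  | single m r =>
    change f (tev (k := k) K c _) = _
    rw [tev_single, tev_single, map_mul, f.commutes]
    rfl

lemma IsHomT.one (ht : IsHomT t) {R : Type u} [CommRing R] [Algebra k R] [Algebra K R] [IsScalarTower k K R] :
    T t (1 : Multiplicative N →* R) = 1 := by
  have h := ht R 1 1
  rw [_root_.mul_one] at h
  exact mul_eq_left.1 h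

/-- `X` has weight `χ` -/
def IsWt (t : Pt k A (GA K N)) (χ : N) (X : Cv k A K) : Prop :=
  Ad t (up K (GA K N) X) = gl K χ • up K (GA K N) X

lemma isWt_iff {χ : N} {X : Cv k A K} : IsWt t χ X ↔
    lin t * up K (GA K N) X = gl K χ • (up K (GA K N) X * lin t) := by
  rw [IsWt, Ad_eq_iff, smul_mul_assoc]

/-- the component of weight `χ` -/
def comp (t : Pt k A (GA K N)) (χ : N) (X : Cv k A K) : Cv k A K := clin (cf K χ) (Ad t (up K (GA K N) X))

lemma comp_apply (χ : N) (X : Cv k A K) (a : A) : comp t χ X a = cf K χ ((Ad t (up K (GA K N) X)) a) := rfl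

lemma comp_add (χ : N) (X Y : Cv k A K) : comp t χ (X + Y) = comp t χ X + comp t χ Y := by
  rw [comp, up_add, Ad_add, map_add]
  rfl

lemma comp_smul (χ : N) (r : K) (X : Cv k A K) : comp t χ (r • X) = r • comp t χ X := by
  rw [comp, up_smul, Ad_smul, clin_smul]
  rfl

lemma IsDer.comp {X : Cv k A K} (h : IsDer X) (χ : N) : IsDer (comp t χ X) := (h.up.conj t).clin _

/-- the component of a weight vector -/
lemma IsWt.comp_eq [DecidableEq N] {χ : N} {X : Cv k A K} (h : IsWt t χ X) (ψ : N) :
    comp t ψ X = if χ = ψ then X else 0 := by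
  refine cv_ext fun a => ?_
  rw [comp_apply, h]
  change cf K ψ (gl K χ * algebraMap K (GA K N) (X a)) = _
  have h1 : gl K χ * algebraMap K (GA K N) (X a) = MonoidAlgebra.single (Multiplicative.ofAdd χ) (X a) := by
    rw [_root_.mul_comm, ← Algebra.smul_def, MonoidAlgebra.smul_single, smul_eq_mul, _root_.mul_one]
  rw [h1, cf_single]
  split_ifs <;> rfl

/-- the `GA K N`-linear coefficient on the iterated group algebra -/
lemma cf_tev (χ : N) (x : GA K N) :
    cf (GA K N) χ (tev (k := k) (R := GA (GA K N) N) K
      ((MonoidAlgebra.of (GA K N) (Multiplicative N))) x) = algebraMap K (GA K N) (cf K χ x) := by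
  classical
  induction x using MonoidAlgebra.induction_linear with
  | zero => rw [map_zero, map_zero, map_zero, map_zero]
  | add x y hx hy => rw [map_add, map_add, hx, hy, map_add, map_add]
  | single m r =>
    rw [tev_single]
    have h1 : algebraMap K (GA (GA K N) N) r * (MonoidAlgebra.of (GA K N) (Multiplicative N)) m =
        MonoidAlgebra.single (Multiplicative.ofAdd m.toAdd) (algebraMap K (GA K N) r) := by
      rw [IsScalarTower.algebraMap_apply K (GA K N) (GA (GA K N) N), ← Algebra.smul_def]
      change _ • MonoidAlgebra.single m 1 = MonoidAlgebra.single m _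
      rw [MonoidAlgebra.smul_single, smul_eq_mul, _root_.mul_one]
    rw [h1, cf_single]
    have h2 : cf K χ (MonoidAlgebra.single m r) = if m.toAdd = χ then r else 0 := cf_single (K := K) χ m.toAdd r
    rw [h2]
    split_ifs
    · rfl
    · rw [map_zero]

/-- the second universal character, twisted by the first -/
def c12 (K : Type u) [Field K] (N : Type) [AddCommGroup N] : Multiplicative N →* GA (GA K N) N where
  toFun n := MonoidAlgebra.single n (MonoidAlgebra.single n 1)
  map_one' := rfl
  map_mul' n m := by rw [MonoidAlgebra.single_mul_single, MonoidAlgebra.single_mul_single, _root_.one_mul]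

lemma cf_tev' (χ : N) (x : GA K N) :
    cf (GA K N) χ (tev (k := k) K (c12 K N) x) = gl K χ * algebraMap K (GA K N) (cf K χ x) := by
  classical
  induction x using MonoidAlgebra.induction_linear with
  | zero => rw [map_zero, map_zero, map_zero, map_zero, mul_zero]
  | add x y hx hy => rw [map_add, map_add, hx, hy, map_add, map_add, mul_add]
  | single m r =>
    rw [tev_single]
    have h1 : algebraMap K (GA (GA K N) N) r * (c12 K N) m =
        MonoidAlgebra.single (Multiplicative.ofAdd m.toAdd) (algebraMap K (GA K N) r * MonoidAlgebra.single m 1) := by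
      rw [IsScalarTower.algebraMap_apply K (GA K N) (GA (GA K N) N), ← Algebra.smul_def]
      change _ • MonoidAlgebra.single m (MonoidAlgebra.single m 1) = MonoidAlgebra.single m _
      rw [MonoidAlgebra.smul_single, smul_eq_mul]
    rw [h1, cf_single]
    have h2 : cf K χ (MonoidAlgebra.single m r) = if m.toAdd = χ then r else 0 := cf_single (K := K) χ m.toAdd r
    rw [h2]
    split_ifs with h
    · subst h
      rw [_root_.mul_comm]
      rfl
    · rw [map_zero, mul_zero]

/-- **The component of weight `χ` has weight `χ`.** -/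
theorem isWt_comp (ht : IsHomT t) (χ : N) (X : Cv k A K) : IsWt t χ (comp t χ X) := by
  let R₂ := GA (GA K N) N
  let c₂ : Multiplicative N →* R₂ := MonoidAlgebra.of (GA K N) (Multiplicative N)
  let j : GA K N →ₐ[K] R₂ := IsScalarTower.toAlgHom K (GA K N) R₂
  let c₁ : Multiplicative N →* R₂ := (j : GA K N →* R₂).comp (cu K N)
  have e12 : c₁ * c₂ = c12 K N := by
    refine MonoidHom.ext fun n => ?_
    change algebraMap (GA K N) R₂ (MonoidAlgebra.single n 1) * MonoidAlgebra.single n 1 =
      MonoidAlgebra.single n (MonoidAlgebra.single n 1)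
    rw [← Algebra.smul_def, MonoidAlgebra.smul_single, smul_eq_mul, _root_.mul_one]
  have e1 : T t c₁ = ptMap (j.restrictScalars k) t := by
    have := ptMap_T (t := t) j (cu K N)
    rw [T_cu] at this
    exact this.symm
  have h1 : Ad (T t c₁) (Ad (T t c₂) (up K R₂ X)) = Ad (T t (c12 K N)) (up K R₂ X) := by
    rw [Ad_Ad, ht, e12]
  have h2 : Ad (T t c₂) (up K R₂ X) = cvMap (tev (k := k) K c₂) (Ad t (up K (GA K N) X)) := by
    rw [cvMap_Ad]
    congr 1
    refine cv_ext fun a => ?_
    change algebraMap K R₂ (X a) = tev (k := k) K c₂ (algebraMap K (GA K N) (X a))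
    exact ((MonoidAlgebra.lift K R₂ (Multiplicative N) c₂).commutes (X a)).symm
  have h3 : Ad (T t (c12 K N)) (up K R₂ X) = cvMap (tev (k := k) K (c12 K N)) (Ad t (up K (GA K N) X)) := by
    rw [cvMap_Ad]
    congr 1
    refine cv_ext fun a => ?_
    change algebraMap K R₂ (X a) = tev (k := k) K (c12 K N) (algebraMap K (GA K N) (X a))
    exact ((MonoidAlgebra.lift K R₂ (Multiplicative N) (c12 K N)).commutes (X a)).symm
  have h4 : clin (cf (GA K N) χ) (cvMap (tev (k := k) K c₂) (Ad t (up K (GA K N) X))) =
      up K (GA K N) (comp t χ X) := by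
    refine cv_ext fun a => ?_
    exact cf_tev (k := k) χ _
  have h5 : clin (cf (GA K N) χ) (cvMap (tev (k := k) K (c12 K N)) (Ad t (up K (GA K N) X))) =
      gl K χ • up K (GA K N) (comp t χ X) := by
    refine cv_ext fun a => ?_
    exact cf_tev' (k := k) χ _
  have h6 : clin (cf (GA K N) χ) (Ad (T t c₁) (Ad (T t c₂) (up K R₂ X))) =
      Ad t (clin (cf (GA K N) χ) (Ad (T t c₂) (up K R₂ X))) := by
    have h7 : (lin (T t c₁) : Cv k A R₂) = up (GA K N) R₂ (lin t) := by rw [e1]; rfl
    have h8 : (lin (T t c₁)⁻¹ : Cv k A R₂) = up (GA K N) R₂ (lin t⁻¹) := by rw [e1, ← map_inv]; rfl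
    rw [Ad_def (T t c₁), h7, h8, clin_mul_up, clin_up_mul, Ad_def]
    rfl
  rw [h1, h3, h5, h2, h4] at h6
  exact h6.symm

/-- the values of `comp` -/
lemma support_mem {X : Cv k A K} (h : IsDer X) [Algebra.FiniteType k A] :
    ∃ S : Finset N, ∀ (a : A) (χ : N), χ ∉ S → comp t χ X a = 0 := by
  classical
  obtain ⟨s, hs⟩ := (Algebra.FiniteType.out : (⊤ : Subalgebra k A).FG)
  let D : Cv k A (GA K N) := Ad t (up K (GA K N) X)
  have hD : IsDer D := h.up.conj t
  let S : Finset N := s.biUnion fun a => (D a).coeff.support.image Multiplicative.toAdd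
  refine ⟨S, fun a χ hχ => ?_⟩
  have h1 := hD.mem_span (s : Set A) hs a
  have h2 : Submodule.span k ((fun b => D b) '' (s : Set A)) ≤ LinearMap.ker ((cf K χ).restrictScalars k) := by
    rw [Submodule.span_le]
    rintro _ ⟨b, hb, rfl⟩
    change cf K χ (D b) = 0
    rw [cf_apply]
    by_contra h3
    apply hχ
    rw [Finset.mem_biUnion]
    refine ⟨b, hb, ?_⟩
    rw [Finset.mem_image]
    exact ⟨Multiplicative.ofAdd χ, Finsupp.mem_support_iff.2 h3, rfl⟩
  exact h2 h1

lemma sum_cf [DecidableEq N] (x : GA K N) (S : Finset N) (hS : ∀ χ ∉ S, cf K χ x = 0) :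
    x = ∑ χ ∈ S, MonoidAlgebra.single (Multiplicative.ofAdd χ) (cf K χ x) := by
  apply MonoidAlgebra.ext
  apply Finsupp.ext
  intro m
  have h1 : ∀ (U : Finset N), (∑ χ ∈ U, MonoidAlgebra.single (Multiplicative.ofAdd χ) (cf K χ x)).coeff m =
      if m.toAdd ∈ U then x.coeff m else 0 := by
    intro U
    change cf K m.toAdd _ = _
    rw [map_sum]
    simp_rw [cf_single]
    rw [Finset.sum_ite_eq']
    rfl
  rw [h1]
  split_ifs with h
  · rfl
  · exact hS _ h

/-- **A derivation is the sum of its components.** -/
theorem exists_sum (ht : IsHomT t) [Algebra.FiniteType k A] {X : Cv k A K} (h : IsDer X) :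
    ∃ S : Finset N, (∀ χ ∉ S, comp t χ X = 0) ∧ X = ∑ χ ∈ S, comp t χ X := by
  classical
  obtain ⟨S, hS⟩ := support_mem (t := t) h
  refine ⟨S, fun χ hχ => ?_, ?_⟩
  · apply WithConv.ext
    ext a
    exact hS a χ hχ
  · let o : GA K N →ₐ[k] K := tev (k := k) K (1 : Multiplicative N →* K)
    have h1 : cvMap o (Ad t (up K (GA K N) X)) = X := by
      rw [cvMap_Ad]
      have h2 : ptMap o t = 1 := ht.one
      rw [h2, Ad_one]
      apply WithConv.ext
      ext a
      exact (MonoidAlgebra.lift K K (Multiplicative N) 1).commutes (X a)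
    refine cv_ext fun a => ?_
    conv_lhs => rw [← h1]
    rw [cvMap_apply, sum_apply]
    rw [sum_cf ((Ad t (up K (GA K N) X)) a) S fun χ hχ => hS a χ hχ, map_sum]
    refine Finset.sum_congr rfl fun χ _ => ?_
    change tev (k := k) K (1 : Multiplicative N →* K) _ = _
    rw [tev_single]
    simp
    rfl

end hom

section tan

variable {k K A : Type u} [Field k] [Field K] [Algebra k K] [CommRing A] [HopfAlgebra k A]
  {N : Type} [AddCommGroup N] {t : Pt k A (GA K N)}

/-- the character `n ↦ 1 + λ(n) ε` -/
def cl (lam : N →+ K) : Multiplicative N →* DualNumber K where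
  toFun n := 1 + TrivSqZeroExt.inr (lam n.toAdd)
  map_one' := by simp
  map_mul' n m := by
    apply TrivSqZeroExt.ext
    · simp
    · simp [add_comm]

lemma cl_apply (lam : N →+ K) (n : Multiplicative N) : cl lam n = 1 + TrivSqZeroExt.inr (lam n.toAdd) := rfl

/-- the tangent vector -/
def dh (t : Pt k A (GA K N)) (lam : N →+ K) : Cv k A K := toConv (dH t.ofConv lam)

lemma dh_apply (lam : N →+ K) (a : A) : dh t lam a = mForm lam (t a) := rfl

lemma tev_cl (lam : N →+ K) (x : GA K N) :
    tev (k := k) K (cl lam) x = TrivSqZeroExt.inl (tev (k := k) K (1 : Multiplicative N →* K) x) +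
      TrivSqZeroExt.inr (mForm lam x) := by
  induction x using MonoidAlgebra.induction_linear with
  | zero => simp
  | add x y hx hy =>
    rw [map_add, hx, hy, map_add, map_add]
    apply TrivSqZeroExt.ext <;> simp
  | single m r =>
    rw [tev_single, tev_single, mForm_single, cl_apply]
    apply TrivSqZeroExt.ext <;> simp [TrivSqZeroExt.algebraMap_eq_inl']

lemma isDer_dh (ht : IsHomT t) (lam : N →+ K) : IsDer (dh t lam) ∧ ∀ h : IsDer (dh t lam),
    T t (cl lam) = exd (dh t lam) h := by
  have h0 : ptMap (fst k K) (T t (cl lam)) = 1 := by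
    have h1 := ptMap_T (t := t) (TrivSqZeroExt.fstHom K K K) (cl lam)
    have h2 : ((TrivSqZeroExt.fstHom K K K : DualNumber K →ₐ[K] K) : DualNumber K →* K).comp (cl lam) = 1 := by
      ext n
      change (cl lam n).fst = 1
      rw [cl_apply]
      simp
    rw [h2, ht.one] at h1
    exact h1
  obtain ⟨D, hD, e⟩ := exists_ex _ h0
  have h1 : ∀ a, D a = dh t lam a := by
    intro a
    have h2 : (T t (cl lam)) a = (exd D hD) a := by rw [e]
    have h3 := congrArg TrivSqZeroExt.snd h2
    change (tev (k := k) K (cl lam) (t a)).snd =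
      (algebraMap k (DualNumber K) (counit (R := k) a) + DualNumber.eps * inl k K (D a)).snd at h3
    rw [tev_cl, inl_apply] at h3
    rw [dh_apply]
    simpa [TrivSqZeroExt.algebraMap_eq_inl'] using h3.symm
  have h2 : D = dh t lam := by
    refine cv_ext fun a => ?_
    exact h1 a
  subst h2
  exact ⟨hD, fun _ => e⟩

/-- **The bracket of a tangent vector of the torus and a weight vector.** -/
theorem dh_lie (ht : IsHomT t) (lam : N →+ K) {χ : N} {X : Cv k A K} (h : IsWt t χ X) :
    ⁅dh t lam, X⁆ = lam χ • X := by
  obtain ⟨hd, he⟩ := isDer_dh ht lam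
  have h1 := isWt_iff.1 h
  let f : GA K N →ₐ[k] DualNumber K := tev (k := k) K (cl lam)
  have h2 := congrArg (cvMap f) h1
  rw [map_mul, cvMap_smul, map_mul] at h2
  have h3 : cvMap f (lin t) = 1 + (DualNumber.eps : DualNumber K) • cvMap (inl k K) (dh t lam) := by
    rw [← lin_ex _ _ (eps_mul_eps K) _ hd]
    exact congrArg lin (he hd)
  have h4 : cvMap f (up K (GA K N) X) = cvMap (inl k K) X := by
    refine cv_ext fun a => ?_
    exact (MonoidAlgebra.lift K (DualNumber K) (Multiplicative N) (cl lam)).commutes (X a)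
  have h5 : f (gl K χ) = 1 + DualNumber.eps * inl k K (lam χ) := by
    change tev (k := k) K (cl lam) _ = _
    rw [tev_single, cl_apply, map_one, _root_.one_mul, inl_apply]
    apply TrivSqZeroExt.ext <;> simp
  rw [h3, h4, h5] at h2
  have h6 : (DualNumber.eps : DualNumber K) • cvMap (inl k K) (dh t lam * X - X * dh t lam - lam χ • X) = 0 := by
    rw [map_sub, map_sub, map_mul, map_mul, cvMap_smul]
    have h7 : (DualNumber.eps : DualNumber K) • ((DualNumber.eps : DualNumber K) • (inl k K (lam χ) •
        (cvMap (inl k K) X * cvMap (inl k K) (dh t lam)))) = 0 := by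
      rw [smul_smul, eps_mul_eps, zero_smul]
    rw [add_mul, _root_.one_mul, smul_mul_assoc, mul_add, _root_.mul_one, mul_smul_comm, add_smul, one_smul,
      smul_add, mul_smul, mul_smul, smul_comm (inl k K (lam χ)) (DualNumber.eps : DualNumber K), h7, add_zero] at h2
    rw [smul_sub, smul_sub]
    have h8 : ∀ a b c d : Cv k A (DualNumber K), a + b = a + c + d → b - c - d = 0 := by
      intro a b c d hh
      have : b = c + d := by
        rw [add_assoc] at hh
        exact add_left_cancel hh
      rw [this]
      abel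
    exact h8 _ _ _ _ h2
  have h9 : dh t lam * X - X * dh t lam - lam χ • X = 0 := by
    refine cv_ext fun a => ?_
    apply eps_inj (k := k)
    exact DFunLike.congr_fun (congrArg WithConv.ofConv h6) a
  exact sub_eq_zero.1 h9

end tan

end

end K197.Rat
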