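import Groth.Agent.SGA3x.K197.RatGeoF
import Mathlib.AlgebraicGeometry.Cover.Open

/-!
# The centralizer of the `p`-torsion of a torus, and the dimension of the stabilizer
-/

set_option autoImplicit false
set_option linter.unusedVariables false
set_option linter.unusedSectionVars false
universe u
open CategoryTheory MonoidalCategory CartesianMonoidalCategory MonObj GrpObj AlgebraicGeometry Limits
open Groth.Agent.Books.AffBridge WithConv TensorProduct

namespace K197.Rat

noncomputable section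

lemma pow_comp_hom {C : Type*} [Category C] [CartesianMonoidalCategory C] {X G H : C} [GrpObj G] [GrpObj H]
    (f : G ⟶ H) [IsMonHom f] (x : X ⟶ G) (n : ℕ) : (x ≫ f) ^ n = (x ^ n) ≫ f := by
  induction n with
  | zero => rw [pow_zero, pow_zero, MonObj.one_comp]
  | succ n ih => rw [pow_succ, pow_succ, MonObj.mul_comp, ih]

lemma comp_pow_hom {C : Type*} [Category C] [CartesianMonoidalCategory C] {X Y G : C} [GrpObj G]
    (a : Y ⟶ X) (x : X ⟶ G) (n : ℕ) : (a ≫ x) ^ n = a ≫ (x ^ n) := by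
  induction n with
  | zero => rw [pow_zero, pow_zero, MonObj.comp_one]
  | succ n ih => rw [pow_succ, pow_succ, MonObj.comp_mul, ih]

section Z

variable {k A B BZ : Type u} [Field k] [CommRing A] [HopfAlgebra k A] [CommRing B] [HopfAlgebra k B]
  [CommRing BZ] [HopfAlgebra k BZ]
  {T Z : Over (Spec (CommRingCat.of k))} [GrpObj T] {i : T ⟶ SpecOver k A} {j : Z ⟶ SpecOver k A}
  {ρ : A →ₐ[k] B} {ρZ : A →ₐ[k] BZ}

/-- points of the centralizer of the torsion -/
theorem ptsZ_iff (e : T ≅ SpecOver k B) [IsMonHom e.hom] (he : e.inv ≫ i = specMap k ρ)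
    (eZ : Z ≅ SpecOver k BZ) (heZ : eZ.inv ≫ j = specMap k ρZ) (p : ℕ)
    (hZ : ∀ (X : Over (Spec (CommRingCat.of k))) (g : X ⟶ SpecOver k A), (∃ z : X ⟶ Z, z ≫ j = g) ↔
        ∀ (X' : Over (Spec (CommRingCat.of k))) (a : X' ⟶ X) (b : X' ⟶ T), b ^ p = 1 →
          (a ≫ g) * (b ≫ i) = (b ≫ i) * (a ≫ g))
    {R : Type u} [CommRing R] [Algebra k R] (φ : Pt k A R) :
    (∃ ψ : Pt k BZ R, resPt ρZ ψ = φ) ↔
      ∀ (R' : Type u) [CommRing R'] [Algebra k R'] (f : R →ₐ[k] R') (ψ : Pt k B R'), ψ ^ p = 1 →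
        ptMap f φ * resPt ρ ψ = resPt ρ ψ * ptMap f φ := by
  rw [← pts_iff eZ heZ φ, hZ]
  constructor
  · intro h R' _ _ f ψ hψ
    have h1 := h (SpecOver k R') (specMap k f) (spHom ψ ≫ e.inv) (by
      rw [pow_comp_hom, ← map_pow, hψ, map_one, MonObj.one_comp])
    rw [Category.assoc, he] at h1
    apply spHom_injective
    have h2 : spHom (resPt ρ ψ : Pt k A R') = spHom ψ ≫ specMap k ρ := spHom_resPt ρ ψ
    rw [map_mul, map_mul, spHom_ptMap, h2]
    exact h1
  · intro h X' a b hb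
    apply Over.OverMorphism.ext
    refine Scheme.Cover.hom_ext X'.left.affineCover _ _ fun n => ?_
    obtain ⟨R', hR'⟩ : ∃ R' : CommRingCat, X'.left.affineCover.X n = Spec R' := ⟨_, rfl⟩
    obtain ⟨f, hf⟩ : ∃ f : Spec (CommRingCat.of R') ⟶ X'.left, X'.left.affineCover.f n = eqToHom hR' ≫ f :=
      ⟨eqToHom hR'.symm ≫ X'.left.affineCover.f n, by simp⟩
    let _ : Algebra k R' := (Spec.preimage (f ≫ X'.hom)).hom.toAlgebra
    have hfa : f ≫ X'.hom = Spec.map (CommRingCat.ofHom (algebraMap k R')) := (Spec.map_preimage (f ≫ X'.hom)).symm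
    let c : SpecOver k R' ⟶ X' := Over.homMk f hfa
    have key : c ≫ ((a ≫ specMap k φ.ofConv) * (b ≫ i)) = c ≫ ((b ≫ i) * (a ≫ specMap k φ.ofConv)) := by
      obtain ⟨ψ, hψ⟩ := spHom_surjective (A := B) (c ≫ b ≫ e.hom)
      have h2 : ψ ^ p = 1 := by
        apply spHom_injective
        rw [map_pow, hψ, comp_pow_hom, pow_comp_hom, hb, MonObj.one_comp, MonObj.comp_one, map_one]
      have h3 := h R' (specPreimage k (c ≫ a)) ψ h2
      have h4 := congrArg spHom h3
      rw [map_mul, map_mul, spHom_ptMap, specMap_specPreimage] at h4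
      have h5 : spHom (resPt ρ ψ) = c ≫ b ≫ i := by
        refine (spHom_resPt ρ ψ).trans ?_
        rw [hψ, ← he, Category.assoc, Category.assoc, Iso.hom_inv_id_assoc]
      have h6 : (c ≫ a) ≫ specMap k φ.ofConv * (c ≫ b ≫ i) = (c ≫ b ≫ i) * (c ≫ a) ≫ specMap k φ.ofConv := by
        rw [← h5]
        exact h4
      rw [MonObj.comp_mul, MonObj.comp_mul, ← Category.assoc]
      exact h6
    have h7 := congrArg (fun f => f.left) key
    have h8 : f ≫ ((a ≫ specMap k φ.ofConv) * (b ≫ i)).left = f ≫ ((b ≫ i) * (a ≫ specMap k φ.ofConv)).left := h7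
    rw [hf, Category.assoc, Category.assoc, h8]

variable {K : Type u} [Field K] [Algebra k K] {r : ℕ} {t : Pt k A (GA K (Fin r → ℤ))}

/-- The centralizer of the Lie algebra of the torus is contained in the Lie algebra of the centralizer of the
`p`-torsion. -/
theorem cent_le (hp : HasPts t ρ) (ht : IsHomT t) (hρ : IsSub k ρ) (hρZ : IsSub k ρZ) [Algebra.FiniteType k B]
    [Algebra.FiniteType k A] (p : ℕ) [CharP K p]
    (hZ : ∀ (R : Type u) [CommRing R] [Algebra k R] (φ : Pt k A R), (∃ ψ : Pt k BZ R, resPt ρZ ψ = φ) ↔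
      ∀ (R' : Type u) [CommRing R'] [Algebra k R'] (f : R →ₐ[k] R') (ψ : Pt k B R'), ψ ^ p = 1 →
        ptMap f φ * resPt ρ ψ = resPt ρ ψ * ptMap f φ) :
    cent (LieS k ρ) ≤ LieS k ρZ := by
  intro D hD
  rw [mem_LieS_iff hρZ D hD.1, hZ]
  intro R' _ _ f ψ hψ
  let f₀ : k →ₐ[k] R' := f.comp (inl k k)
  let e' : R' := f DualNumber.eps
  have he' : e' * e' = 0 := by
    change f _ * f _ = 0
    rw [← map_mul, eps_mul_eps, map_zero]
  have h1 : ptMap f (exd D hD.1) = ex (AlgHom.id k R') e' he' (up k R' D) hD.1.up := by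
    rw [ptMap_ex]
    refine pt_ext fun a => ?_
    change algebraMap k R' (Coalgebra.counit (R := k) a) + e' * f (inl k k (D a)) =
      algebraMap k R' (Coalgebra.counit (R := k) a) + e' * algebraMap k R' (D a)
    congr 2
    exact f₀.commutes (D a)
  rw [h1]
  have h2 := commute_ex (AlgHom.id k R') e' he' (resPt ρ ψ : Pt k A R') (up k R' D) hD.1.up
    (hp.Ad_torsion ht hρ p hD ψ hψ)
  have h3 : ptMap (AlgHom.id k R') (resPt ρ ψ : Pt k A R') = resPt ρ ψ := rfl
  rw [h3] at h2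
  exact h2.symm

end Z

end

end K197.Rat
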